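import Groth.Agent.FormalB.GrAbs
import Mathlib.Algebra.Homology.ShortComplex.ExactFunctor
import Mathlib.Algebra.Homology.DerivedCategory.Ext.ExactSequences

/-!
# Cohomological functors with values in modules, from an action of a ring on an abelian category

`Act A C`: the commutative ring `A` acts on the abelian category `C` by natural endomorphisms.
For an exact functor `E : C ⥤ 𝒜` and an object `Z : 𝒜` the groups `Ext^n(Z, E F)` are `A`-modules and form a
cohomological functor `extDelta α Z E : Delta C A`.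
-/

set_option autoImplicit false
set_option linter.unusedSectionVars false
universe w v v' v'' u u' u''

open CategoryTheory CategoryTheory.Limits CategoryTheory.Abelian

noncomputable section

namespace K288.ActDelta

open Groth.Agent.FormalB.GrAbs

/-- An action of `A` on `C` by natural endomorphisms. -/
structure Act (A : Type w) [CommRing A] (C : Type u) [Category.{v} C] [Preadditive C] where
  /-- the action -/
  mul : A → ∀ F : C, F ⟶ F
  nat : ∀ (a : A) {F G : C} (φ : F ⟶ G), φ ≫ mul a G = mul a F ≫ φ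
  one : ∀ F, mul 1 F = 𝟙 F
  zero : ∀ F, mul 0 F = 0
  mul_mul : ∀ (a b : A) (F : C), mul (a * b) F = mul b F ≫ mul a F
  add : ∀ (a b : A) (F : C), mul (a + b) F = mul a F + mul b F

variable {A : Type w} [CommRing A] {C : Type u} [Category.{v} C] [Abelian C] (α : Act A C)
  {𝒜 : Type u'} [Category.{v'} 𝒜] [Abelian 𝒜] [HasExt.{w} 𝒜] (Z : 𝒜)
  (E : C ⥤ 𝒜) [E.Additive]

/-- `Ext^n(Z, E F) → Ext^n(Z, E G)`. -/
def em {F G : C} (φ : F ⟶ G) (n : ℕ) : Ext Z (E.obj F) n →+ Ext Z (E.obj G) n :=
  (Ext.mk₀ (E.map φ)).postcomp Z (add_zero n)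

theorem em_apply {F G : C} (φ : F ⟶ G) (n : ℕ) (x : Ext Z (E.obj F) n) :
    em Z E φ n x = x.comp (Ext.mk₀ (E.map φ)) (add_zero n) := rfl

theorem em_id (F : C) (n : ℕ) (x : Ext Z (E.obj F) n) : em Z E (𝟙 F) n x = x := by
  rw [em_apply, E.map_id, Ext.comp_mk₀_id]

theorem em_comp {F G H : C} (φ : F ⟶ G) (ψ : G ⟶ H) (n : ℕ) (x : Ext Z (E.obj F) n) :
    em Z E (φ ≫ ψ) n x = em Z E ψ n (em Z E φ n x) := by
  rw [em_apply, em_apply, em_apply, E.map_comp, Ext.comp_assoc_of_third_deg_zero, Ext.mk₀_comp_mk₀]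

theorem em_zero (F G : C) (n : ℕ) (x : Ext Z (E.obj F) n) : em Z E (0 : F ⟶ G) n x = 0 := by
  rw [em_apply, E.map_zero, Ext.mk₀_zero, Ext.comp_zero]

theorem em_add {F G : C} (φ ψ : F ⟶ G) (n : ℕ) (x : Ext Z (E.obj F) n) :
    em Z E (φ + ψ) n x = em Z E φ n x + em Z E ψ n x := by
  rw [em_apply, em_apply, em_apply, E.map_add, Ext.mk₀_add, Ext.comp_add]

/-- `Ext^n(Z, E F)` with its `A`-module structure. -/
def HX (_ : Act A C) (Z : 𝒜) (E : C ⥤ 𝒜) (F : C) (n : ℕ) : Type w := Ext Z (E.obj F) n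

instance (F : C) (n : ℕ) : AddCommGroup (HX α Z E F n) := inferInstanceAs (AddCommGroup (Ext Z (E.obj F) n))

instance (F : C) (n : ℕ) : Module A (HX α Z E F n) where
  smul a x := em Z E (α.mul a F) n x
  one_smul x := by
    refine Eq.trans ?_ (em_id Z E F n x)
    change em Z E (α.mul 1 F) n x = em Z E (𝟙 F) n x
    rw [α.one]
  mul_smul a b x := by
    refine Eq.trans ?_ (em_comp Z E (α.mul b F) (α.mul a F) n x)
    change em Z E (α.mul (a * b) F) n x = _
    rw [α.mul_mul]
  smul_zero a := map_zero _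
  smul_add a x y := map_add _ x y
  add_smul a b x := by
    refine Eq.trans ?_ (em_add Z E (α.mul a F) (α.mul b F) n x)
    change em Z E (α.mul (a + b) F) n x = _
    rw [α.add]
  zero_smul x := by
    refine Eq.trans ?_ (em_zero Z E F F n x)
    change em Z E (α.mul 0 F) n x = _
    rw [α.zero]

theorem smul_HX (F : C) (n : ℕ) (a : A) (x : HX α Z E F n) : a • x = em Z E (α.mul a F) n x := rfl

/-- Functoriality. -/
def hX {F G : C} (φ : F ⟶ G) (n : ℕ) : HX α Z E F n →ₗ[A] HX α Z E G n where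
  toFun := em Z E φ n
  map_add' := map_add _
  map_smul' a x := by
    refine (em_comp Z E (α.mul a F) φ n x).symm.trans (Eq.trans ?_ (em_comp Z E φ (α.mul a G) n x))
    rw [α.nat]

theorem hX_apply {F G : C} (φ : F ⟶ G) (n : ℕ) (x : HX α Z E F n) : hX α Z E φ n x = em Z E φ n x := rfl

/-- `Ext^n(Z, E -)` as a functor to `A`-modules. -/
def HXF (n : ℕ) : C ⥤ ModuleCat.{w} A where
  obj F := ModuleCat.of A (HX α Z E F n)
  map φ := ModuleCat.ofHom (hX α Z E φ n)
  map_id F := by
    ext x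
    exact em_id Z E F n x
  map_comp φ ψ := by
    ext x
    exact em_comp Z E φ ψ n x

section Ex

variable [PreservesFiniteLimits E] [PreservesFiniteColimits E] {S T : ShortComplex C}

/-- The connecting map. -/
def ed (hS : S.ShortExact) (n : ℕ) : Ext Z (E.obj S.X₃) n →+ Ext Z (E.obj S.X₁) (n + 1) :=
  (hS.map_of_exact E).extClass.postcomp Z rfl

theorem ed_apply (hS : S.ShortExact) (n : ℕ) (x : Ext Z (E.obj S.X₃) n) :
    ed Z E hS n x = x.comp (hS.map_of_exact E).extClass rfl := rfl

theorem comp_extClass_naturality {S T : ShortComplex 𝒜} (hS : S.ShortExact) (hT : T.ShortExact) (f : S ⟶ T) (n : ℕ)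
    (x : Ext Z S.X₃ n) : (x.comp hS.extClass rfl).comp (Ext.mk₀ f.τ₁) (add_zero (n + 1)) =
      (x.comp (Ext.mk₀ f.τ₃) (add_zero n)).comp hT.extClass rfl := by
  rw [Ext.comp_assoc _ _ _ rfl (add_zero 1) (by omega), Ext.comp_assoc _ _ _ (add_zero n) (zero_add 1) (by omega),
    ShortComplex.ShortExact.extClass_naturality hS hT f]

theorem ed_naturality (hS : S.ShortExact) (hT : T.ShortExact) (f : S ⟶ T) (n : ℕ) (x : Ext Z (E.obj S.X₃) n) :
    em Z E f.τ₁ (n + 1) (ed Z E hS n x) = ed Z E hT n (em Z E f.τ₃ n x) :=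
  comp_extClass_naturality Z (hS.map_of_exact E) (hT.map_of_exact E) (E.mapShortComplex.map f) n x

/-- The connecting map, linear. -/
def dX (hS : S.ShortExact) (n : ℕ) : HX α Z E S.X₃ n →ₗ[A] HX α Z E S.X₁ (n + 1) where
  toFun := ed Z E hS n
  map_add' := map_add _
  map_smul' a x := by
    let f : S ⟶ S :=
      { τ₁ := α.mul a S.X₁
        τ₂ := α.mul a S.X₂
        τ₃ := α.mul a S.X₃
        comm₁₂ := (α.nat _ S.f).symm
        comm₂₃ := (α.nat _ S.g).symm }
    exact (ed_naturality Z E hS hS f n x).symm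

/-- `Ext^n(Z, E -)` as a cohomological functor with values in `A`-modules. -/
def extDelta : Delta C A where
  H := HXF α Z E
  map_zero p _ _ := by
    ext x
    exact em_zero Z E _ _ p x
  δ hS p := dX α Z E hS p
  δ_nat hS hT f p x := ed_naturality Z E hS hT f p x
  exact₂ hS p x hx := Ext.covariant_sequence_exact₂ Z (hS.map_of_exact E) x hx
  exact₃ hS p x hx := Ext.covariant_sequence_exact₃ Z (hS.map_of_exact E) x rfl hx

end Ex

/-- Composition of a cohomological functor with an exact functor. -/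
def comp {C' : Type u''} [Category.{v''} C'] [Abelian C'] (D : Delta C A) (F : C' ⥤ C) [F.PreservesZeroMorphisms]
    [PreservesFiniteLimits F] [PreservesFiniteColimits F] : Delta C' A where
  H p := F ⋙ D.H p
  map_zero p X Y := by
    change (D.H p).map (F.map 0) = 0
    rw [F.map_zero, D.map_zero]
  δ hS p := D.δ (hS.map_of_exact F) p
  δ_nat hS hT f p x := D.δ_nat (hS.map_of_exact F) (hT.map_of_exact F) (F.mapShortComplex.map f) p x
  exact₂ hS p x hx := D.exact₂ (hS.map_of_exact F) p x hx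
  exact₃ hS p x hx := D.exact₃ (hS.map_of_exact F) p x hx

end K288.ActDelta
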