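import Groth.Agent.FCompl.K29.RExact
import Groth.Agent.CycB.StalkExact
import Groth.Agent.FSch.K288.ActDelta

/-!
# Multiplication by global functions on modules on a ringed space

* `mul s F : F ⟶ F` multiplication by the global function `s`;
* `act ρ : Act A (Mod R)` for a ring map `ρ : A → O(T)`;
* `tS R : Mod R ⥤ Ab(T)`, exact.
-/

set_option autoImplicit false
set_option linter.style.haveILetI false
universe w u

open CategoryTheory TopologicalSpace Opposite CategoryTheory.Limits

noncomputable section

namespace K288.LinH

open K29.RSec K288.ActDelta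

variable {T : TopCat.{u}} {R : Sheaf (Opens.grothendieckTopology T) CommRingCat.{u}}

theorem app_add {M N : Mod R} (φ ψ : M ⟶ N) (V : Opens T) (m : Sec M V) : app (φ + ψ) V m = app φ V m + app ψ V m := rfl

theorem app_zero {M N : Mod R} (V : Opens T) (m : Sec M V) : app (0 : M ⟶ N) V m = 0 := rfl

/-- The restriction of a global function. -/
def glr (V : Opens T) : O R ⊤ →+* O R V := resO (le_top : V ≤ ⊤)

theorem resO_glr {V W : Opens T} (h : W ≤ V) (s : O R ⊤) : resO h (glr V s) = glr W s := resO_resO _ _ _

/-- Multiplication by a global function. -/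
def mul (s : O R ⊤) (F : Mod R) : F ⟶ F :=
  homMk (fun V => DistribSMul.toAddMonoidHom (Sec F V) (glr V s))
    (fun V r m => by
      change glr V s • r • m = r • glr V s • m
      rw [smul_smul, smul_smul, mul_comm])
    (fun V W h m => by
      change glr W s • res F h m = res F h (glr V s • m)
      rw [res_smul, resO_glr])

theorem app_mul (s : O R ⊤) (F : Mod R) (V : Opens T) (m : Sec F V) :
    app (mul s F) V m = glr V s • m := rfl

theorem mul_naturality (s : O R ⊤) {F G : Mod R} (φ : F ⟶ G) : φ ≫ mul s G = mul s F ≫ φ :=
  hom_ext fun V m => by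
    rw [app_comp, app_comp, app_mul, app_mul]
    exact ((app φ V).map_smul _ _).symm

theorem mul_one (F : Mod R) : mul 1 F = 𝟙 F :=
  hom_ext fun V m => by
    rw [app_mul, map_one, one_smul]
    rfl

theorem mul_zero (F : Mod R) : mul 0 F = 0 :=
  hom_ext fun V m => by
    rw [app_mul, map_zero, zero_smul]
    rfl

theorem mul_mul (s t : O R ⊤) (F : Mod R) : mul (s * t) F = mul t F ≫ mul s F :=
  hom_ext fun V m => by
    rw [app_comp, app_mul, app_mul, app_mul, map_mul, mul_smul]

theorem mul_add (s t : O R ⊤) (F : Mod R) : mul (s + t) F = mul s F + mul t F :=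
  hom_ext fun V m => by
    rw [app_add, app_mul, app_mul, app_mul, map_add, add_smul]

/-- The action of `A` on the category of modules. -/
def act {A : Type w} [CommRing A] (ρ : A →+* O R ⊤) : Act A (Mod R) where
  mul a F := mul (ρ a) F
  nat a _ _ φ := mul_naturality (ρ a) φ
  one F := by rw [map_one, mul_one]
  zero F := by rw [map_zero, mul_zero]
  mul_mul a b F := by rw [map_mul, mul_mul]
  add a b F := by rw [map_add, mul_add]

variable (R) in
/-- The underlying abelian sheaf. -/
def tS : Mod R ⥤ Sheaf (Opens.grothendieckTopology T) AddCommGrpCat.{u} :=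
  SheafOfModules.toSheaf.{u} (ModSite.ringSh R)

instance : PreservesFiniteColimits (tS R) where
  preservesFiniteColimits J _ _ :=
    Groth.Agent.CycB.StalkExact.toSheaf_preservesColimitsOfShape (ModSite.ringSh R) J

instance : PreservesFiniteLimits (tS R) :=
  inferInstanceAs (PreservesFiniteLimits (SheafOfModules.toSheaf.{u} (ModSite.ringSh R)))

instance : (tS R).Additive :=
  inferInstanceAs ((SheafOfModules.toSheaf.{u} (ModSite.ringSh R)).Additive)

end K288.LinH
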