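import Groth.Agent.FSch.K181.Formal
import Groth.Agent.FSch.K178.TowerAlg
import Groth.Agent.FCompl.K29.FmlAff

/-!
# Limits of towers of cartesian sheaves of modules

* `isBC_of_lim`: if `G` is the limit of the cartesian sheaves `Gk k` and the tower of sections over `V` satisfies uniform
  Mittag-Leffler and the filtration of `G(V)` by the kernels is good, then `G(W) = O(W) ⊗ G(V)` for `W ≤ V`;
* `cartF_of_lim`: the version on a formal scheme.
-/

set_option autoImplicit false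
set_option linter.style.haveILetI false
universe u

open CategoryTheory TopologicalSpace Opposite TensorProduct AlgebraicGeometry CategoryTheory.Limits

noncomputable section

namespace K288.CartLim

open K29.RSec K29.Fml K181.Good K181.BC K181.Formal K178.TowerAlg

section General

variable {T : TopCat.{u}} {R : Sheaf (Opens.grothendieckTopology T) CommRingCat.{u}} {V W : Opens T} (h : W ≤ V)
  {G : Mod R} {Gk : ℕ → Mod R} (t : ∀ k, Gk (k + 1) ⟶ Gk k) (p : ∀ k, G ⟶ Gk k) (hp : ∀ k, p (k + 1) ≫ t k = p k)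
  {r : ℕ} {a : Fin r → O R V}

include hp in
theorem isBC_of_lim (S : Sys a (fun k => Sec (Gk k) V)) (hS : ∀ k m, S.t (Nat.le_succ k) m = app (t k) V m)
    (hlim : IsLim S (fun k => app (p k) V)) {c : ℕ} (hc : S.UML c) {k₀ : ℕ}
    (hk : ∀ n, LinearMap.ker (app (p (k₀ + n)) V) ≤ Ideal.span (Set.range a) ^ n • ⊤)
    (hfin : Module.Finite (O R V) (Sec G V)) (hflat : (resO (R := R) h).Flat) [IsNoetherianRing (O R W)]
    (hW : IsAdicComplete ((Ideal.span (Set.range a)).map (resO (R := R) h)) (O R W))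
    (hext : ∀ x : Sec G W, (∀ k, app (p k) W x = 0) → x = 0)
    (hbc : ∀ k, IsBC (resO (R := R) h) (resS (Gk k) h)) : IsBC (resO (R := R) h) (resS G h) := by
  letI : Algebra (O R V) (O R W) := (resO (R := R) h).toAlgebra
  letI : ∀ k, Module (O R V) (Sec (Gk k) W) := fun k => Module.compHom _ (resO (R := R) h)
  haveI : ∀ k, IsScalarTower (O R V) (O R W) (Sec (Gk k) W) := fun k => IsScalarTower.of_algebraMap_smul fun _ _ => rfl
  letI : Module (O R V) (Sec G W) := Module.compHom _ (resO (R := R) h)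
  haveI : IsScalarTower (O R V) (O R W) (Sec G W) := IsScalarTower.of_algebraMap_smul fun _ _ => rfl
  haveI : Module.Flat (O R V) (O R W) := hflat
  haveI : IsAdicComplete ((Ideal.span (Set.range a)).map (algebraMap (O R V) (O R W))) (O R W) := hW
  rw [isBC_iff (σ := resO (R := R) h) rfl (resS G h) (toLin (resO (R := R) h) rfl (resS G h)) fun _ => rfl]
  have := IsLim.isBaseChange (B := O R W) (J := Ideal.span (Set.range a)) hlim
    (fun k b hb m => S.smul_eq_zero k b hb m) hc hk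
    (fun k => toLin (resO (R := R) h) rfl (resS (Gk k) h)) (fun k => (hbc k).out rfl)
    (fun k => app (t k) W) (fun k m => ?_) (fun k => app (p k) W) (fun k l => ?_) hext
    (toLin (resO (R := R) h) rfl (resS G h)) (fun k l => ?_)
  · exact this
  · rw [hS]
    exact app_res (t k) h m
  · rw [← app_comp, hp]
  · exact app_res (p k) h l

end General

section Formal

variable {𝔜 : FSch.Sys.{u}} (h𝔜 : 𝔜.IsLocNoethFormal) {V : (𝔜.X 0).Opens} (hV : IsAffineOpen V)
  {G : Mod (𝔜.Osh h𝔜.1)} {Gk : ℕ → Mod (𝔜.Osh h𝔜.1)} (t : ∀ k, Gk (k + 1) ⟶ Gk k) (p : ∀ k, G ⟶ Gk k)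
  (hp : ∀ k, p (k + 1) ≫ t k = p k) {r : ℕ} {a : Fin r → O (𝔜.Osh h𝔜.1) V}
  (ha : Ideal.span (Set.range a) = II h𝔜.1 V)

include hV hp ha in
theorem cartF_of_lim (S : Sys a (fun k => Sec (Gk k) V)) (hS : ∀ k m, S.t (Nat.le_succ k) m = app (t k) V m)
    (hlim : IsLim S (fun k => app (p k) V)) {c : ℕ} (hc : S.UML c) {k₀ : ℕ}
    (hk : ∀ n, LinearMap.ker (app (p (k₀ + n)) V) ≤ Ideal.span (Set.range a) ^ n • ⊤)
    (hfin : Module.Finite (O (𝔜.Osh h𝔜.1) V) (Sec G V))
    (hext : ∀ (W : (𝔜.X 0).Opens) (x : Sec G W), (∀ k, app (p k) W x = 0) → x = 0)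
    (hcart : ∀ k, Cart (fcov h𝔜) (Gk k) V) : CartF (fcov h𝔜) G V := by
  refine ⟨⟨hV, fun W hW hWV => ?_⟩, hfin⟩
  have hVa : IsAffineOpen (𝔜.lvU h𝔜.1 0 V) := aff h𝔜 hV
  have hWa : IsAffineOpen (𝔜.lvU h𝔜.1 0 W) := aff h𝔜 hW
  have h1 : IsNoetherianRing (O (𝔜.Osh h𝔜.1) W) := isNoetherianRing_O h𝔜 hWa
  have h2 : IsAdicComplete ((Ideal.span (Set.range a)).map (resO (R := 𝔜.Osh h𝔜.1) hWV)) (O (𝔜.Osh h𝔜.1) W) := by
    have e3 : (II h𝔜.1 V).map (resO (R := 𝔜.Osh h𝔜.1) hWV) = II h𝔜.1 W := K919.AffFlat.map_II h𝔜 hVa hWa hWV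
    rw [ha, e3]
    exact isAdicComplete_II h𝔜 hWa
  exact isBC_of_lim hWV t p hp S hS hlim hc hk hfin ((fcov h𝔜).flat hWV hV hW) h2 (hext W)
    fun k => (hcart k).2 W hW hWV

end Formal

end K288.CartLim
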