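import Groth.Agent.FSch.K288.TowerFin
import Groth.Prelude.Def_ARSys
import Mathlib.CategoryTheory.Functor.OfSequence

/-!
# The Mittag-Leffler condition for the cohomology of a tower, as a system of abelian groups
-/

set_option autoImplicit false
set_option linter.unusedSectionVars false
universe w v v' v'' u u' u''

open CategoryTheory CategoryTheory.Limits CategoryTheory.Abelian Opposite

noncomputable section

namespace K288.TowerAbs

open Groth.Agent.FormalB.GrAbs ActDelta K178.TowerAlg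

section ML

variable {C : Type u} [Category.{v} C] [Abelian C]

theorem imageSubobject_le_of_comp {X Y Z : C} (f : X ⟶ Z) (g : Y ⟶ Z) (h : f ≫ cokernel.π g = 0) :
    imageSubobject f ≤ imageSubobject g := by
  have h1 : imageSubobject g = kernelSubobject (cokernel.π g) :=
    (ShortComplex.exact_iff_image_eq_kernel (ShortComplex.mk g (cokernel.π g) (cokernel.condition g))).1
      (ShortComplex.exact_cokernel g)
  rw [h1]
  exact image_le_kernel f (cokernel.π g) h

theorem imageSubobject_le_of_eq_comp {X Y Z : C} (g : X ⟶ Y) (f : Y ⟶ Z) (k : X ⟶ Z) (h : k = g ≫ f) :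
    imageSubobject k ≤ imageSubobject f := by
  subst h
  exact imageSubobject_comp_le g f

/-- Mittag-Leffler for a sequence of abelian groups, in terms of elements. -/
theorem isML_of_elements (X : ℕᵒᵖ ⥤ AddCommGrpCat.{w})
    (h : ∀ n : ℕ, ∃ r : ℕ, ∀ s : ℕ, r ≤ s → ∀ x : X.obj (op (n + s)), ∃ y : X.obj (op (n + s + 1)),
      ARSys.tr X (show n ≤ n + s + 1 by omega) y = ARSys.tr X (Nat.le_add_right n s) x) : ARSys.IsML X := by
  intro n
  obtain ⟨r, hr⟩ := h n
  have key : ∀ s, r ≤ s → ∀ (x : X.obj (op (n + r))), ∃ y : X.obj (op (n + s)),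
      ARSys.tr X (Nat.le_add_right n s) y = ARSys.tr X (Nat.le_add_right n r) x := by
    intro s hs x
    induction s, hs using Nat.le_induction with
    | base => exact ⟨x, rfl⟩
    | succ s hs ih =>
      obtain ⟨y, hy⟩ := ih
      obtain ⟨z, hz⟩ := hr s hs y
      exact ⟨z, hz.trans hy⟩
  refine ⟨r, fun s hs => le_antisymm ?_ ?_⟩
  · have h1 : ARSys.shiftMap X s n = ARSys.tr X (show n + r ≤ n + s by omega) ≫ ARSys.shiftMap X r n := by
      change X.map _ = X.map _ ≫ X.map _
      rw [← X.map_comp]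
      rfl
    exact imageSubobject_le_of_eq_comp _ _ _ h1
  · refine imageSubobject_le_of_comp _ _ ?_
    ext x
    obtain ⟨y, hy⟩ := key s hs x
    have h2 := congr($(cokernel.condition (ARSys.shiftMap X s n)) y)
    change cokernel.π (ARSys.shiftMap X s n) (ARSys.shiftMap X r n x) = 0
    have h3 : ARSys.shiftMap X r n x = ARSys.shiftMap X s n y := hy.symm
    rw [h3]
    exact h2

end ML

variable {A : Type w} [CommRing A] {C : Type u} [Category.{v} C] [Abelian C] {α : Act A C} {r : ℕ} {a : Fin r → A}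
  (W : Tw α a) {𝒜 : Type u'} [Category.{v'} 𝒜] [Abelian 𝒜] [HasExt.{w} 𝒜] (Z : 𝒜) (E : C ⥤ 𝒜) [E.Additive]
  [PreservesFiniteLimits E] [PreservesFiniteColimits E] (n : ℕ)

/-- The system of abelian groups `H^n(F k)`. -/
def Tw.gsys : ℕᵒᵖ ⥤ AddCommGrpCat.{w} :=
  Functor.ofOpSequence (X := fun k => AddCommGrpCat.of (Ext Z (E.obj (W.F k)) n))
    (fun k => AddCommGrpCat.ofHom (em Z E (W.t k) n))

theorem Tw.tr_gsys {i j : ℕ} (h : i ≤ j) (x : Ext Z (E.obj (W.F j)) n) :
    ARSys.tr (W.gsys Z E n) h x = (W.sys Z E n).t h x := by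
  induction j, h using Nat.le_induction with
  | base =>
    have h1 : ARSys.tr (W.gsys Z E n) (le_refl i) = 𝟙 _ := (W.gsys Z E n).map_id _
    rw [h1]
    exact ((W.sys Z E n).t_self i x).symm
  | succ j h ih =>
    have h1 : ARSys.tr (W.gsys Z E n) (h.trans (Nat.le_succ j)) =
        ARSys.tr (W.gsys Z E n) (Nat.le_succ j) ≫ ARSys.tr (W.gsys Z E n) h := by
      change (W.gsys Z E n).map _ = (W.gsys Z E n).map _ ≫ (W.gsys Z E n).map _
      rw [← (W.gsys Z E n).map_comp]
      rfl
    have h2 : ARSys.tr (W.gsys Z E n) (Nat.le_succ j) = AddCommGrpCat.ofHom (em Z E (W.t j) n) :=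
      Functor.ofOpSequence_map_homOfLE_succ _ j
    refine (congr($h1 x)).trans ?_
    change ARSys.tr (W.gsys Z E n) h (ARSys.tr (W.gsys Z E n) (Nat.le_succ j) x) = _
    rw [h2]
    refine (ih (em Z E (W.t j) n x)).trans ?_
    refine Eq.trans ?_ ((W.sys Z E n).t_t h (Nat.le_succ j) x)
    rw [sys_t]
    rfl

/-- The uniform Mittag-Leffler condition. -/
def Tw.UMLn : Prop := ∃ c, (W.sys Z E n).UML c

/-- Goodness of the filtration of the limit. -/
def Tw.Stepn : Prop := ∃ k₀, (W.sys Z E n).Step k₀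

theorem Tw.isML_gsys (h : W.UMLn Z E n) : ARSys.IsML (W.gsys Z E n) := by
  obtain ⟨c, hc⟩ := h
  refine isML_of_elements _ fun i => ⟨c, fun s hs x => ?_⟩
  obtain ⟨y, hy⟩ := hc i (i + s) (by omega) x
  refine ⟨y, ?_⟩
  rw [W.tr_gsys, W.tr_gsys]
  exact hy

end K288.TowerAbs
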