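import Groth.Agent.FSch.K181.Coh
import Groth.Agent.FSch.K288.TowerML

/-!
# Mittag-Leffler for systems of cartesian sheaves of modules

`isML`: a sequence `G` of sheaves of modules on a compact ringed space with a good basis, cartesian on the basis, satisfies
Mittag-Leffler if it does so, uniformly, on the sections over the members of a covering.
-/

set_option autoImplicit false
universe u

open CategoryTheory TopologicalSpace Opposite CategoryTheory.Limits

noncomputable section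

namespace K288.MLSheaf

open K29.RSec K181.Good K181.BC K288.TowerAbs

variable {T : TopCat.{u}} {R : Sheaf (Opens.grothendieckTopology T) CommRingCat.{u}} {𝔅 : GoodCov R}
  (G : ℕᵒᵖ ⥤ Mod R)

/-- Uniform Mittag-Leffler on the sections over `V`. -/
def UM (V : Opens T) (c : ℕ) : Prop :=
  ∀ (i j : ℕ) (h : i + c ≤ j) (m : Sec (G.obj (op j)) V), ∃ m' : Sec (G.obj (op (j + 1))) V,
    app (ARSys.tr G (show i ≤ j + 1 by omega)) V m' = app (ARSys.tr G (show i ≤ j by omega)) V m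

variable {G}

theorem tr_tr {i j k : ℕ} (h : i ≤ j) (h' : j ≤ k) (V : Opens T) (m : Sec (G.obj (op k)) V) :
    app (ARSys.tr G h) V (app (ARSys.tr G h') V m) = app (ARSys.tr G (h.trans h')) V m := by
  rw [← app_comp]
  have : ARSys.tr G h' ≫ ARSys.tr G h = ARSys.tr G (h.trans h') := by
    change G.map _ ≫ G.map _ = G.map _
    rw [← G.map_comp]
    rfl
  rw [this]

theorem UM.mono {V : Opens T} {c c' : ℕ} (h : UM G V c) (hc : c ≤ c') : UM G V c' := fun i j hij m =>
  h i j (by omega) m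

theorem UM.exists_lift {V : Opens T} {c : ℕ} (h : UM G V c) (i s : ℕ) (hs : c ≤ s) (m : Sec (G.obj (op (i + c))) V) :
    ∃ m' : Sec (G.obj (op (i + s))) V,
      app (ARSys.tr G (Nat.le_add_right i s)) V m' = app (ARSys.tr G (Nat.le_add_right i c)) V m := by
  induction s, hs using Nat.le_induction with
  | base => exact ⟨m, rfl⟩
  | succ s hs ih =>
    obtain ⟨y, hy⟩ := ih
    obtain ⟨z, hz⟩ := h i (i + s) (by omega) y
    exact ⟨z, hz.trans hy⟩

theorem UM.exists_lift_res {V W : Opens T} {c : ℕ} (h : UM G V c) (hW : W ∈ 𝔅.B) (hWV : W ≤ V)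
    (i s : ℕ) (hs : c ≤ s) (hc : Cart 𝔅 (G.obj (op (i + c))) V) (m : Sec (G.obj (op (i + c))) W) :
    ∃ m' : Sec (G.obj (op (i + s))) W,
      app (ARSys.tr G (Nat.le_add_right i s)) W m' = app (ARSys.tr G (Nat.le_add_right i c)) W m := by
  have h1 := (hc.isBC hc.mem le_rfl hW hWV).mem_span m
  refine Submodule.span_induction (p := fun m _ => ∃ m' : Sec (G.obj (op (i + s))) W,
      app (ARSys.tr G (Nat.le_add_right i s)) W m' = app (ARSys.tr G (Nat.le_add_right i c)) W m) ?_ ?_ ?_ ?_ h1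
  · rintro _ ⟨x, rfl⟩
    obtain ⟨x', hx'⟩ := h.exists_lift i s hs x
    refine ⟨res _ hWV x', ?_⟩
    rw [app_res, hx', ← app_res]
    rfl
  · exact ⟨0, by rw [map_zero, map_zero]⟩
  · rintro x y _ _ ⟨x', hx'⟩ ⟨y', hy'⟩
    exact ⟨x' + y', by rw [map_add, map_add, hx', hy']⟩
  · rintro b x _ ⟨x', hx'⟩
    exact ⟨b • x', by rw [map_smul, map_smul, hx']⟩

variable (G) in
/-- Mittag-Leffler for a sequence of cartesian sheaves. -/
theorem isML [CompactSpace T] (hc : ∀ k, ∀ V ∈ 𝔅.B, Cart 𝔅 (G.obj (op k)) V)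
    (h : ∀ x : T, ∃ V ∈ 𝔅.B, x ∈ V ∧ ∃ c : ℕ, UM G V c) : ARSys.IsML G := by
  choose V hV hxV c hc' using h
  obtain ⟨t, ht⟩ := isCompact_univ.elim_finite_subcover (fun x : T => (V x : Set T)) (fun x => (V x).2)
    fun x _ => Set.mem_iUnion.2 ⟨x, hxV x⟩
  let c₀ := t.sup c
  have key : ∀ y : T, ∃ V ∈ 𝔅.B, y ∈ V ∧ UM G V c₀ := fun y => by
    obtain ⟨x, hx, hy⟩ := Set.mem_iUnion₂.1 (ht (Set.mem_univ y))
    exact ⟨V x, hV x, hy, (hc' x).mono (Finset.le_sup hx)⟩
  intro n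
  refine ⟨c₀, fun s hs => le_antisymm ?_ ?_⟩
  · have h1 : ARSys.shiftMap G s n = ARSys.tr G (show n + c₀ ≤ n + s by omega) ≫ ARSys.shiftMap G c₀ n := by
      change G.map _ = G.map _ ≫ G.map _
      rw [← G.map_comp]
      rfl
    exact imageSubobject_le_of_eq_comp _ _ _ h1
  · refine imageSubobject_le_of_comp _ _ (hom_ext fun U m => eq_of_forall_nhds _ _ _ fun y hy => ?_)
    obtain ⟨V', hV', hyV', hum⟩ := key y
    obtain ⟨W, hW, hyW, hWU⟩ := Opens.isBasis_iff_nbhd.1 𝔅.basis (show y ∈ U ⊓ V' from ⟨hy, hyV'⟩)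
    refine ⟨W, hyW, hWU.trans inf_le_left, ?_⟩
    rw [← app_res, ← app_res, app_comp]
    obtain ⟨m', hm'⟩ := hum.exists_lift_res (𝔅 := 𝔅) hW (hWU.trans inf_le_right) n s hs (hc _ _ hV')
      (res _ (hWU.trans inf_le_left) m)
    have h2 : app (ARSys.shiftMap G c₀ n) W (res _ (hWU.trans inf_le_left) m) = app (ARSys.shiftMap G s n) W m' :=
      hm'.symm
    rw [h2, ← app_comp, cokernel.condition]
    rfl

end K288.MLSheaf
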