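import Groth.Agent.FSch.K288.FLim

/-!
# Finiteness for proper morphisms to formal schemes with affine underlying scheme

`f : 𝔛 ⟶ 𝔜` proper, `Y_0` affine, `𝔉` coherent on `𝔛`:

* `isLim`: `H^n(𝔛, 𝔉)` is the limit of the `H^n(𝔛, 𝔉_k)`;
* `finite_HM`: `H^n(𝔛, 𝔉)` is a finite `O(𝔜)`-module;
* `exists_ker_eq`: the kernels of `H^n(𝔛, 𝔉) → H^n(𝔛, 𝔉_k)` are a good filtration.
-/

set_option autoImplicit false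
set_option linter.style.haveILetI false
set_option linter.unusedSectionVars false
universe w v v' v'' u u' u''

open CategoryTheory TopologicalSpace Opposite AlgebraicGeometry CategoryTheory.Limits CategoryTheory.Abelian

noncomputable section

namespace K288.TowerAbs

open ActDelta K178.TowerAlg

variable {A : Type w} [CommRing A] {C : Type u} [Category.{v} C] [Abelian C] {α : Act A C} {r : ℕ} {a : Fin r → A}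
  (W : Tw α a) {𝒜 : Type u'} [Category.{v'} 𝒜] [Abelian 𝒜] [HasExt.{w} 𝒜] (Z : 𝒜) (E : C ⥤ 𝒜) [E.Additive]
  [PreservesFiniteLimits E] [PreservesFiniteColimits E] (n : ℕ)

theorem Tw.IsLimn.eq_zero {L : C} {p : ∀ k, L ⟶ W.F k} (h : W.IsLimn Z E n p) (x : Ext Z (E.obj L) n)
    (hx : ∀ k, em Z E (p k) n x = 0) : x = 0 := h.ext x hx

theorem Tw.IsLimn.exists_lift {L : C} {p : ∀ k, L ⟶ W.F k} (h : W.IsLimn Z E n p) (y : ∀ k, Ext Z (E.obj (W.F k)) n)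
    (hy : ∀ k, em Z E (W.t k) n (y (k + 1)) = y k) : ∃ x : Ext Z (E.obj L) n, ∀ k, em Z E (p k) n x = y k :=
  h.lift y fun k => (congrArg (fun g => g (y (k + 1))) (W.sys_t Z E n k)).trans (hy k)

theorem Tw.IsLimn.exists_ker_eq {L : C} {p : ∀ k, L ⟶ W.F k} (h : W.IsLimn Z E n p) (hs : W.Stepn Z E n) :
    ∃ k₀, ∀ m, LinearMap.ker (hX α Z E (p (k₀ + m)) n) =
      Ideal.span (Set.range a) ^ m • LinearMap.ker (hX α Z E (p k₀) n) := by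
  obtain ⟨k₀, hk⟩ := hs
  exact ⟨k₀, IsLim.ker_eq h hk⟩

theorem Tw.IsLimn.finite [IsNoetherianRing A] (hA : IsAdicComplete (Ideal.span (Set.range a)) A) {L : C}
    {p : ∀ k, L ⟶ W.F k} (h : W.IsLimn Z E n p) (hs : W.Stepn Z E n)
    (hM : ∀ k, Module.Finite A (HX α Z E (W.F k) n)) : Module.Finite A (HX α Z E L n) := by
  obtain ⟨k₀, hk⟩ := h.exists_ker_eq W Z E n hs
  exact IsLim.finite (J := Ideal.span (Set.range a)) h hk hM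

end K288.TowerAbs

namespace K288.FBase

open K29.RSec K29.RPull K29.Fml LinH IIAdic FTower TowerAbs ActDelta HPush K181.Formal

variable {𝔛 𝔜 : FSch.Sys.{u}} (h𝔛 : 𝔛.IsLocNoethFormal) (h𝔜 : 𝔜.IsLocNoethFormal) {f : 𝔛 ⟶ 𝔜}
  (hf : FSch.IsProperHom f) (hY : IsAffine (𝔜.X 0)) {𝔉 : FSch.ModF 𝔛 h𝔛.1} (h𝔉 : FSch.IsCohF 𝔛 h𝔛.1 𝔉)

section

variable {r : ℕ} {a : Fin r → BA h𝔜} (ha : Ideal.span (Set.range a) = II h𝔜.1 ⊤)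

theorem isLim (n : ℕ) :
    (tw h𝔛 h𝔜 hf hY ha h𝔉).IsLimn (ZT (𝔛.X 0).carrier) (tS (𝔛.Osh h𝔛.1)) n (un h𝔛 𝔉) :=
  FLim.isLim h𝔛 h𝔉 (genII h𝔛 h𝔜 hf.1 (aff_top h𝔜 hY) ha) n fun m _ => uml h𝔛 h𝔜 hf hY ha h𝔉 m

end

include hf hY h𝔉 in
/-- `H^n(𝔛, 𝔉)` is finite over `O(𝔜)`. -/
theorem finite_lim (n : ℕ) : Module.Finite (BA h𝔜) (HM (R := 𝔛.Osh h𝔛.1) (ρt h𝔛 h𝔜 f) 𝔉 n) := by
  have h1 : IsNoetherianRing (BA h𝔜) := K29.Fml.isNoetherianRing_O h𝔜 (aff_top h𝔜 hY)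
  obtain ⟨r, a, ha⟩ := exists_gen h𝔜 (aff_top h𝔜 hY)
  have h2 : IsAdicComplete (Ideal.span (Set.range a)) (BA h𝔜) := by
    rw [ha]
    exact K29.Fml.isAdicComplete_II h𝔜 (aff_top h𝔜 hY)
  exact Tw.IsLimn.finite (tw h𝔛 h𝔜 hf hY ha h𝔉) _ _ n h2 (isLim h𝔛 h𝔜 hf hY h𝔉 ha n) (step h𝔛 h𝔜 hf hY ha h𝔉 n)
    fun k => finite_HM h𝔛 h𝔜 hf hY h𝔉 k n

include hf hY h𝔉 in
/-- The kernels of `H^n(𝔛, 𝔉) → H^n(𝔛, 𝔉_k)` are a good filtration. -/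
theorem exists_ker_eq (n : ℕ) : ∃ k₀, ∀ m,
    LinearMap.ker (hX (fact h𝔛 (ρt h𝔛 h𝔜 f)) (ZT (𝔛.X 0).carrier) (tS (𝔛.Osh h𝔛.1)) (un h𝔛 𝔉 (k₀ + m)) n) =
      II h𝔜.1 ⊤ ^ m •
        LinearMap.ker (hX (fact h𝔛 (ρt h𝔛 h𝔜 f)) (ZT (𝔛.X 0).carrier) (tS (𝔛.Osh h𝔛.1)) (un h𝔛 𝔉 k₀) n) := by
  obtain ⟨r, a, ha⟩ := exists_gen h𝔜 (aff_top h𝔜 hY)
  obtain ⟨k₀, h⟩ := Tw.IsLimn.exists_ker_eq (tw h𝔛 h𝔜 hf hY ha h𝔉) _ _ n (isLim h𝔛 h𝔜 hf hY h𝔉 ha n)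
    (step h𝔛 h𝔜 hf hY ha h𝔉 n)
  refine ⟨k₀, fun m => ?_⟩
  rw [← ha]
  exact h m

end K288.FBase
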