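import Groth.Agent.CohtopA.PushClosed
import Groth.Agent.FCompl.K29.RPull
import Groth.Agent.FSch.K288.LinH

/-!
# Cohomology of direct images of modules under closed embeddings, linearly
-/

set_option autoImplicit false
set_option linter.style.haveILetI false
universe w u

open CategoryTheory TopologicalSpace Opposite CategoryTheory.Limits CategoryTheory.Abelian

noncomputable section

namespace K288.HPush

open K29.RSec K29.RPull LinH ActDelta Groth.Agent.CohtopA

/-- The constant sheaf `ℤ`. -/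
abbrev ZT (T : TopCat.{u}) : Sheaf (Opens.grothendieckTopology T) AddCommGrpCat.{u} := PushClosed.ZZ T

/-- `H^n(T, F)` as an `A`-module. -/
abbrev HM {T : TopCat.{u}} {R : Sheaf (Opens.grothendieckTopology T) CommRingCat.{u}} {A : Type u} [CommRing A]
    (ρ : A →+* O R ⊤) (F : Mod R) (n : ℕ) : Type u := HX (act (R := R) ρ) (ZT T) (tS R) F n

variable {T T₁ : TopCat.{u}} {f : T₁ ⟶ T} {R : Sheaf (Opens.grothendieckTopology T) CommRingCat.{u}}
  {R₁ : Sheaf (Opens.grothendieckTopology T₁) CommRingCat.{u}}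
  [(Opens.map f).IsContinuous (Opens.grothendieckTopology T) (Opens.grothendieckTopology T₁)]
  {φ : ringSheaf R ⟶ ((Opens.map f).sheafPushforwardContinuous RingCat.{u}
    (Opens.grothendieckTopology T) (Opens.grothendieckTopology T₁)).obj (ringSheaf R₁)}

theorem tS_push (M : Mod R₁) : (tS R).obj ((push φ).obj M) = (CohTop.push f).obj ((tS R₁).obj M) := rfl

/-- `H^n(T₁, M) ≃ H^n(T, f_* M)` for a closed embedding `f`. -/
def pe (hf : Topology.IsClosedEmbedding f) (M : Mod R₁) (n : ℕ) :
    Ext (ZT T₁) ((tS R₁).obj M) n ≃+ Ext (ZT T) ((tS R).obj ((push φ).obj M)) n :=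
  letI := PushClosed.preservesFiniteColimits_push_of_isClosedEmbedding f hf
  PushClosed.HPushEquiv f ((tS R₁).obj M) n

theorem pe_em (hf : Topology.IsClosedEmbedding f) {M N : Mod R₁} (g : M ⟶ N) (n : ℕ) (x : Ext (ZT T₁) ((tS R₁).obj M) n) :
    pe (φ := φ) hf N n (em (ZT T₁) (tS R₁) g n x) = em (ZT T) (tS R) ((push φ).map g) n (pe hf M n x) := by
  let _ := PushClosed.preservesFiniteColimits_push_of_isClosedEmbedding f hf
  have h1 := ExtAdj.extOfHom_comp (CohTop.push f) (PushClosed.constHom f)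
    (show Ext _ ((tS R₁).obj M) n from x) (Ext.mk₀ ((tS R₁).map g)) (add_zero n)
  rw [Ext.mapExactFunctor_mk₀] at h1
  exact h1

variable {A : Type u} [CommRing A] {ρ : A →+* O R ⊤} {ρ₁ : A →+* O R₁ ⊤}

theorem finite_push (hf : Topology.IsClosedEmbedding f) (hρ : ∀ a, cm φ ⊤ (ρ a) = ρ₁ a) (M : Mod R₁) (n : ℕ)
    (h : Module.Finite A (HM ρ₁ M n)) : Module.Finite A (HM ρ ((push φ).obj M) n) := by
  have h1 : ∀ a : A, (push φ).map (mul (ρ₁ a) M) = mul (ρ a) ((push φ).obj M) := fun a => by
    refine hom_ext fun V m => ?_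
    have e1 : app ((push φ).map (mul (ρ₁ a) M)) V m = toPush φ (glr (R := R₁) (pre f V) (ρ₁ a) • ofPush φ m) := rfl
    have e2 : app (mul (ρ a) ((push φ).obj M)) V m = toPush φ (cm φ V (glr V (ρ a)) • ofPush φ m) := rfl
    have e3 : glr (R := R₁) (pre f V) (ρ₁ a) = cm φ V (glr V (ρ a)) := by
      rw [← hρ]
      exact (cm_resO φ (le_top : V ≤ ⊤) (ρ a)).symm
    rw [e1, e2, e3]
  let e : HM ρ₁ M n →ₗ[A] HM ρ ((push φ).obj M) n :=
    { toFun := pe hf M n
      map_add' := map_add _
      map_smul' := fun a x => by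
        refine (pe_em hf (mul (ρ₁ a) M) n x).trans ?_
        rw [h1]
        rfl }
  exact Module.Finite.of_surjective e (pe (φ := φ) hf M n).surjective

end K288.HPush
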