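import Groth.Agent.FSch.K288.FTower
import Groth.Agent.FSch.K288.HPush
import Groth.Agent.FormalB.GrCoh
import Groth.Agent.S0002

/-!
# Finiteness of the cohomology of the graded pieces of the tower `𝔉_k`

* `epi_push`, exactness of the direct image from a level;
* `finG`: the cohomology of the kernels of the tower is finite and eventually generated by the operators if `X_0` is
  proper over `A`.
-/

set_option autoImplicit false
set_option linter.style.haveILetI false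
universe u

open CategoryTheory TopologicalSpace Opposite TensorProduct AlgebraicGeometry CategoryTheory.Limits

noncomputable section

namespace K288.FTower

open K28 K28.RealLevel K29.RSec K29.RPull K29.Fml K29.RExact K181.Good K181.Formal LinH TowerAbs ActDelta HPush PushCoh

section Push

variable {𝔛 : FSch.Sys.{u}} (h : 𝔛.IsFormal) (k : ℕ)

/-- Direct image from the level `k`. -/
abbrev PP : (𝔛.X k).Modules ⥤ FSch.ModF 𝔛 h := (FSch.levelMor 𝔛 h k).push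

/-- Inverse image to the level `k`. -/
abbrev LL : FSch.ModF 𝔛 h ⥤ (𝔛.X k).Modules := (FSch.levelMor 𝔛 h k).pull

theorem gInv_toX' (x : 𝔛.X 0) : 𝔛.gInv h k ((𝔛.toX k).base x) = x :=
  congr($(𝔛.toX_base_gInv h k) x)

theorem epi_push {M N : (𝔛.X k).Modules} (φ : M ⟶ N) [hφ : Epi φ] : Epi ((PP h k).map φ) := by
  rw [epi_iff_local]
  intro V t x hx
  have h1 := (epi_iff_local (R := (𝔛.X k).sheaf) φ).1 hφ (𝔛.lvU h k V) t ((𝔛.toX k).base x) (by
    change 𝔛.gInv h k ((𝔛.toX k).base x) ∈ V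
    rw [gInv_toX']
    exact hx)
  obtain ⟨W, hxW, hW, s, hs⟩ := h1
  have hW' : (𝔛.toX k) ⁻¹ᵁ W ≤ V := fun z hz => by
    have h2 : 𝔛.gInv h k ((𝔛.toX k).base z) ∈ V := hW hz
    rwa [gInv_toX'] at h2
  have hle : 𝔛.lvU h k ((𝔛.toX k) ⁻¹ᵁ W) ≤ W := (lvU_toX h k W).le
  refine ⟨(𝔛.toX k) ⁻¹ᵁ W, hxW, hW', res (R := (𝔛.X k).sheaf) M hle s, ?_⟩
  have h3 := congrArg (res (R := (𝔛.X k).sheaf) N hle) hs
  rw [← app_res, res_res] at h3
  exact h3

instance : (PP h k).Additive := inferInstanceAs ((FSch.levelMor 𝔛 h k).push.Additive)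

instance : PreservesFiniteLimits (PP h k) :=
  have : PreservesLimitsOfSize.{0, 0} (PP h k) := (FSch.levelMor 𝔛 h k).adj.rightAdjoint_preservesLimits
  inferInstance

instance : PreservesFiniteColimits (PP h k) := by
  have h1 : PreservesFiniteLimits (PP h k) ∧ PreservesFiniteColimits (PP h k) :=
    ((PP h k).exact_tfae.out 0 3 (by rfl) (by rfl)).1 (fun S hS => by
      have := hS.epi_g
      have := hS.mono_f
      have : Epi (S.map (PP h k)).g := epi_push h k S.g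
      have : Mono (S.map (PP h k)).f := inferInstanceAs (Mono ((PP h k).map S.f))
      exact ShortComplex.ShortExact.mk (hS.exact.map_of_mono_of_preservesKernel (PP h k) hS.mono_f inferInstance))
  exact h1.2

end Push

variable {𝔛 : FSch.Sys.{u}} {h𝔛 : 𝔛.IsLocNoethFormal} {A : Type u} [CommRing A] {ρ : A →+* O (𝔛.Osh h𝔛.1) ⊤} {r : ℕ}
  {a : Fin r → A} (hII : GenII h𝔛 ρ a) {𝔉 : FSch.ModF 𝔛 h𝔛.1} (h𝔉 : FSch.IsCohF 𝔛 h𝔛.1 𝔉)

include h𝔉 in
theorem isCohF_FF (k : ℕ) : FSch.IsCohF 𝔛 h𝔛.1 (FF h𝔛 𝔉 k) := isCohF_push h𝔛 k (isCoh_lv h𝔛 𝔉 h𝔉 k)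

theorem isCohF_K (k : ℕ) : FSch.IsCohF 𝔛 h𝔛.1 ((ftw hII h𝔉).K k) := by
  have h1 : ∀ {F G : FSch.ModF 𝔛 h𝔛.1} (φ : F ⟶ G), FSch.IsCohF 𝔛 h𝔛.1 F → FSch.IsCohF 𝔛 h𝔛.1 G →
      FSch.IsCohF 𝔛 h𝔛.1 (kernel φ) := fun φ hF hG =>
    isFinitePresentation_of_mono (fcov h𝔛) (fun _ hU => isNoetherianRing_O h𝔛 hU) hF
      (isQuasicoherent_kernel (fcov h𝔛) φ inferInstance inferInstance) (kernel.ι φ)
  exact h1 (lt h𝔛 𝔉 k) (isCohF_FF h𝔉 (k + 1)) (isCohF_FF h𝔉 k)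

/-- The kernels of the tower come from `X_0`. -/
theorem isIso_unit_K (k : ℕ) : IsIso ((FSch.levelMor 𝔛 h𝔛.1 0).adj.unit.app ((ftw hII h𝔉).K k)) := by
  refine (basis_aff 𝔛 h𝔛.1).isIso _ fun U hU => ?_
  have hU' : IsAffineOpen (𝔛.lvU h𝔛.1 0 U) := hU
  have hK := isCohF_K hII h𝔉 k
  refine ⟨?_, un_surjective h𝔛 hK hU' 0⟩
  rw [injective_iff_map_eq_zero]
  intro m hm
  rw [un_eq_zero_iff h𝔛 hK hU', zero_add, pow_one, hII U hU'] at hm
  obtain ⟨n, -, rfl⟩ := exists_sum _ _ _ hm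
  refine Finset.sum_eq_zero fun i _ => ?_
  have hinj : Function.Injective (app ((ftw hII h𝔉).ι k) U) := (mono_iff_app _).1 inferInstance U
  apply hinj
  rw [map_zero, map_smul]
  exact congrArg (fun g : (ftw hII h𝔉).K k ⟶ FF h𝔛 𝔉 (k + 1) => app g U (n i)) (kill hII h𝔉 i k)

section Proper

variable [IsNoetherianRing A] [(𝔛.X 0).Over (Spec (CommRingCat.of A))] [IsProper (𝔛.X 0 ↘ Spec (CommRingCat.of A))]
  (hρ : ∀ b : A, Coh.toGlobal (𝔛.X 0 ↘ Spec (CommRingCat.of A)) b = prO h𝔛.1 0 ⊤ (ρ b))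

theorem isClosedEmbedding_gInv (h : 𝔛.IsFormal) (k : ℕ) : Topology.IsClosedEmbedding (𝔛.gInv h k) :=
  (TopCat.homeoOfIso (asIso (𝔛.gInv h k))).isClosedEmbedding

include hρ in
theorem finite_HM_push {M : (𝔛.X 0).Modules} (hM : Coh.IsCoh M) (p : ℕ) :
    Module.Finite A (HM (R := 𝔛.Osh h𝔛.1) ρ ((PP h𝔛.1 0).obj M) p) := by
  have h1 : Module.Finite A (Coh.HH (𝔛.X 0) M p) := Groth.Agent.S0002.result A (𝔛.X 0) M hM p
  refine finite_push (R := 𝔛.Osh h𝔛.1) (R₁ := (𝔛.X 0).sheaf) (φ := lvφ h𝔛.1 0) (f := 𝔛.gInv h𝔛.1 0)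
    (ρ₁ := (Coh.toGlobal (𝔛.X 0 ↘ Spec (CommRingCat.of A)) : A →+* _)) (isClosedEmbedding_gInv h𝔛.1 0)
    (fun b => (hρ b).symm) M p ?_
  exact h1

include hρ in
/-- The cohomology of the kernels of the tower is finite and eventually generated by the operators. -/
theorem finG (n : ℕ) : (ftw hII h𝔉).FinG (ZT (𝔛.X 0).carrier) (tS (𝔛.Osh h𝔛.1)) n := by
  have hX : IsNoetherian (𝔛.X 0) := Groth.Agent.FormalB.GrCoh.isNoetherian_of_isProper (A := A)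
  exact (ftw hII h𝔉).finG (L := LL h𝔛.1 0) (G := PP h𝔛.1 0) (FSch.levelMor 𝔛 h𝔛.1 0).adj
    (ZT (𝔛.X 0).carrier) (tS (𝔛.Osh h𝔛.1)) (fun M => Coh.IsCoh M)
    (fun f hM hN => Groth.Agent.FormalB.FormalLoc.isCoh_kernel f hM hN.1)
    (fun f hM hN => Groth.Agent.FormalB.FormalLoc.isCoh_cokernel f hM.1 hN)
    (fun M hM p => finite_HM_push (h𝔛 := h𝔛) hρ hM p)
    (fun r G hG hgen => Groth.Agent.FormalB.GrNoeth.gen_ker r G hG hgen)
    (fun k => isCoh_lv h𝔛 _ (isCohF_K hII h𝔉 k) 0) (fun k => isIso_unit_K hII h𝔉 k) (gen_gr hII h𝔉) n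

end Proper

end K288.FTower
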