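import Groth.Agent.FSch.K288.IIAdic
import Groth.Agent.FSch.K288.FTowerFin
import Groth.Agent.FSch.K288.TowerML
import Groth.Agent.Divis.BlowChart

/-!
# Proper morphisms to formal schemes with affine underlying scheme

`f : 𝔛 ⟶ 𝔜` proper, `Y_0` affine: `A = O(𝔜)`, `ρ : A → O(𝔛)`, `gen`: finitely many generators of the ideal of definition
of `A`.  `FBase.finG`: the graded finiteness statement; `uml`, `exists_step`.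
-/

set_option autoImplicit false
set_option linter.style.haveILetI false
universe u

open CategoryTheory TopologicalSpace Opposite AlgebraicGeometry CategoryTheory.Limits

noncomputable section

namespace K288.FBase

open K29.RSec K29.RPull K29.Fml LinH IIAdic FTower TowerAbs ActDelta HPush K181.Formal

variable {𝔛 𝔜 : FSch.Sys.{u}} (h𝔛 : 𝔛.IsLocNoethFormal) (h𝔜 : 𝔜.IsLocNoethFormal) (f : 𝔛 ⟶ 𝔜)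

/-- The base ring `O(𝔜)`. -/
abbrev BA : Type u := O (𝔜.Osh h𝔜.1) ⊤

/-- `O(𝔜) → O(𝔛)`. -/
def ρt : BA h𝔜 →+* O (𝔛.Osh h𝔛.1) ⊤ := shR h𝔛 h𝔜 f (V := ⊤) (U := ⊤) le_rfl

theorem glr_ρt (U : (𝔛.X 0).Opens) (s : BA h𝔜) :
    glr (R := 𝔛.Osh h𝔛.1) U (ρt h𝔛 h𝔜 f s) = shR h𝔛 h𝔜 f (V := ⊤) (U := U) le_top s :=
  resO_resO (R := 𝔛.Osh h𝔛.1) _ _ _

variable {f}

theorem genII (hf : FSch.IsAdicHom f) (hY : IsAffineOpen (𝔜.lvU h𝔜.1 0 ⊤)) {r : ℕ} {a : Fin r → BA h𝔜}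
    (ha : Ideal.span (Set.range a) = II h𝔜.1 ⊤) : GenII h𝔛 (ρt h𝔛 h𝔜 f) a := by
  intro U hU
  rw [II_eq h𝔛 h𝔜 hf hY hU le_top, ← ha, Ideal.map_span, ← Set.range_comp]
  congr 2
  funext i
  exact (glr_ρt h𝔛 h𝔜 f U (a i)).symm

theorem exists_gen (hY : IsAffineOpen (𝔜.lvU h𝔜.1 0 ⊤)) :
    ∃ (r : ℕ) (a : Fin r → BA h𝔜), Ideal.span (Set.range a) = II h𝔜.1 ⊤ := by
  have := K29.Fml.isNoetherianRing_O h𝔜 hY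
  obtain ⟨r, a, ha⟩ := Submodule.fg_iff_exists_fin_generating_family.1 (IsNoetherian.noetherian (II h𝔜.1 ⊤))
  exact ⟨r, a, ha⟩

variable (f)

/-- `O(𝔜) → Γ(Y_0)`. -/
def p0 : BA h𝔜 →+* Γ(𝔜.X 0, ⊤) := prO h𝔜.1 0 ⊤

/-- The structure morphism `X_0 → Spec O(𝔜)`. -/
def str : 𝔛.X 0 ⟶ Spec (CommRingCat.of (BA h𝔜)) :=
  (f : FSch.Hom 𝔛 𝔜).app 0 ≫ (𝔜.X 0).toSpecΓ ≫ Spec.map (CommRingCat.ofHom (p0 h𝔜))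

variable {f}

theorem isProper_str (hf : FSch.IsProperHom f) (hY : IsAffine (𝔜.X 0)) : IsProper (str h𝔜 f) := by
  have h1 := hf.2
  have hY' : IsAffineOpen (𝔜.lvU h𝔜.1 0 ⊤) := isAffineOpen_top (𝔜.X 0)
  have h2 : IsClosedImmersion (Spec.map (CommRingCat.ofHom (p0 h𝔜))) :=
    IsClosedImmersion.spec_of_surjective _ (prO_surjective h𝔜 hY' 0)
  have h4 : IsIso (𝔜.X 0).toSpecΓ := inferInstance
  unfold str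
  infer_instance

theorem toGlobal_aux {A : Type u} [CommRing A] {X Y : Scheme.{u}} (g : X ⟶ Y) (ψ : A →+* Γ(Y, ⊤)) (b : A) :
    Coh.toGlobal (g ≫ Y.toSpecΓ ≫ Spec.map (CommRingCat.ofHom ψ)) b = g.appTop.hom (ψ b) := by
  have h1 := congrArg (fun t : A →+* Γ(Y, ⊤) => t b) (Groth.Agent.Divis.BlowChart.glob_toSpecΓ_map ψ)
  have h2 : Coh.toGlobal (Y.toSpecΓ ≫ Spec.map (CommRingCat.ofHom ψ)) b = ψ b := h1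
  rw [← h2]
  change ((g ≫ Y.toSpecΓ ≫ Spec.map (CommRingCat.ofHom ψ)).appTop).hom _ = _
  rw [Scheme.Hom.comp_appTop]
  rfl

theorem toGlobal_str (b : BA h𝔜) : Coh.toGlobal (str h𝔜 f) b = prO h𝔛.1 0 ⊤ (ρt h𝔛 h𝔜 f b) := by
  have h1 : prO h𝔛.1 0 ⊤ (ρt h𝔛 h𝔜 f b) = ((f : FSch.Hom 𝔛 𝔜).app 0).appTop.hom (prO h𝔜.1 0 ⊤ b) := by
    rw [ρt, prO_shR]
    have e : ((f : FSch.Hom 𝔛 𝔜).app 0).appTop = ((f : FSch.Hom 𝔛 𝔜).app 0).appLE ⊤ ⊤ le_rfl :=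
      Scheme.Hom.app_eq_appLE _
    rw [e]
    rfl
  rw [h1]
  exact toGlobal_aux ((f : FSch.Hom 𝔛 𝔜).app 0) (p0 h𝔜) b

variable (hf : FSch.IsProperHom f) (hY : IsAffine (𝔜.X 0)) {r : ℕ} {a : Fin r → BA h𝔜}
  (ha : Ideal.span (Set.range a) = II h𝔜.1 ⊤) {𝔉 : FSch.ModF 𝔛 h𝔛.1} (h𝔉 : FSch.IsCohF 𝔛 h𝔛.1 𝔉)

include hY in
theorem aff_top : IsAffineOpen (𝔜.lvU h𝔜.1 0 ⊤) := isAffineOpen_top (𝔜.X 0)

/-- The tower `𝔉_k` with the operators from `O(𝔜)`. -/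
abbrev tw : Tw (fact h𝔛 (ρt h𝔛 h𝔜 f)) a := ftw (genII h𝔛 h𝔜 hf.1 (aff_top h𝔜 hY) ha) h𝔉

theorem finG (n : ℕ) : (tw h𝔛 h𝔜 hf hY ha h𝔉).FinG (ZT (𝔛.X 0).carrier) (tS (𝔛.Osh h𝔛.1)) n := by
  have h1 : IsNoetherianRing (BA h𝔜) := K29.Fml.isNoetherianRing_O h𝔜 (aff_top h𝔜 hY)
  letI : (𝔛.X 0).Over (Spec (CommRingCat.of (BA h𝔜))) := ⟨str h𝔜 f⟩
  haveI : IsProper (𝔛.X 0 ↘ Spec (CommRingCat.of (BA h𝔜))) := isProper_str h𝔜 hf hY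
  exact FTower.finG _ h𝔉 (toGlobal_str h𝔛 h𝔜) n

/-- The uniform Mittag-Leffler condition. -/
theorem uml (n : ℕ) : (tw h𝔛 h𝔜 hf hY ha h𝔉).UMLn (ZT (𝔛.X 0).carrier) (tS (𝔛.Osh h𝔛.1)) n := by
  have h1 : IsNoetherianRing (BA h𝔜) := K29.Fml.isNoetherianRing_O h𝔜 (aff_top h𝔜 hY)
  exact Tw.uml _ _ _ n (finG h𝔛 h𝔜 hf hY ha h𝔉 (n + 1))

/-- Goodness of the filtration of the limit. -/
theorem step (n : ℕ) : (tw h𝔛 h𝔜 hf hY ha h𝔉).Stepn (ZT (𝔛.X 0).carrier) (tS (𝔛.Osh h𝔛.1)) n := by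
  have h1 : IsNoetherianRing (BA h𝔜) := K29.Fml.isNoetherianRing_O h𝔜 (aff_top h𝔜 hY)
  exact Tw.exists_step _ _ _ n (finG h𝔛 h𝔜 hf hY ha h𝔉 n)

include hf hY h𝔉 in
/-- The cohomology of `𝔉_k` is finite. -/
theorem finite_HM (k n : ℕ) : Module.Finite (BA h𝔜) (HM (R := 𝔛.Osh h𝔛.1) (ρt h𝔛 h𝔜 f) (FF h𝔛 𝔉 k) n) := by
  have h1 : IsNoetherianRing (BA h𝔜) := K29.Fml.isNoetherianRing_O h𝔜 (aff_top h𝔜 hY)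
  letI : (𝔛.X 0).Over (Spec (CommRingCat.of (BA h𝔜))) := ⟨str h𝔜 f⟩
  haveI : IsProper (𝔛.X 0 ↘ Spec (CommRingCat.of (BA h𝔜))) := isProper_str h𝔜 hf hY
  obtain ⟨r, a, ha⟩ := exists_gen h𝔜 (aff_top h𝔜 hY)
  refine Tw.finite (tw h𝔛 h𝔜 hf hY ha h𝔉) (ZT (𝔛.X 0).carrier) (tS (𝔛.Osh h𝔛.1)) n (finG h𝔛 h𝔜 hf hY ha h𝔉 n) ?_ k
  exact finite_HM_push (h𝔛 := h𝔛) (toGlobal_str h𝔛 h𝔜) (K29.Fml.isCoh_lv h𝔛 𝔉 h𝔉 0) n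

end K288.FBase
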