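import Groth.Agent.FSch.K288.TowerLim
import Groth.Agent.FSch.K288.FBase
import Groth.Agent.Ega3A.SheafSeq
import Groth.Agent.FCompl.K29.FmlSys

/-!
# The cohomology of a coherent module on a formal scheme as a limit

`sec_ext`, `sec_lift`: sections of `𝔉` are the limit of the sections of the `𝔉_k`; `isLim`: `H^n(𝔛, 𝔉)` is the limit of
the `H^n(𝔛, 𝔉_k)` as soon as the tower satisfies uniform Mittag-Leffler in degree `n - 1`.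
-/

set_option autoImplicit false
set_option linter.style.haveILetI false
universe u

open CategoryTheory TopologicalSpace Opposite AlgebraicGeometry CategoryTheory.Limits CategoryTheory.Abelian

noncomputable section

namespace K288.FLim

open K29.RSec K29.RPull K29.RExact K29.Fml LinH IIAdic FTower TowerAbs ActDelta HPush K181.Formal K181.Good
open Groth.Agent.Ega3A K178.TowerAlg

section Crit

variable {T : TopCat.{u}} {F : ℕᵒᵖ ⥤ CohTop.Ab T} (c : Cone F)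

theorem isLimit_of_sections
    (h : ∀ (V : Opens T) (y : ∀ k : ℕ, (F.obj (op k)).obj.obj (op V)),
      (∀ k, ((F.map (homOfLE (Nat.le_succ k)).op).hom.app (op V)).hom (y (k + 1)) = y k) →
        ∃! x : c.pt.obj.obj (op V), ∀ k : ℕ, ((c.π.app (op k)).hom.app (op V)).hom x = y k) : Nonempty (IsLimit c) := by
  refine ⟨isLimitOfReflects (sheafToPresheaf _ _) (evaluationJointlyReflectsLimits _ fun V =>
    isLimitOfReflects (forget AddCommGrpCat) (Classical.choice ((Types.isLimit_iff _).2 fun s hs => ?_)))⟩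
  obtain ⟨V⟩ := V
  obtain ⟨x, hx, hx'⟩ := h V (fun k => s (op k)) fun k => hs (homOfLE (Nat.le_succ k)).op
  exact ⟨x, fun k => hx k.unop, fun y hy => hx' y fun k => hy (op k)⟩

end Crit

variable {𝔛 𝔜 : FSch.Sys.{u}} (h𝔛 : 𝔛.IsLocNoethFormal) {𝔉 : FSch.ModF 𝔛 h𝔛.1} (h𝔉 : FSch.IsCohF 𝔛 h𝔛.1 𝔉)

include h𝔉 in
theorem epi_un (k : ℕ) : Epi (un h𝔛 𝔉 k) :=
  (epi_iff_stMap _).2 fun x => (K28.RealLevel.basis_aff 𝔛 h𝔛.1).surjective _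
    (fun _ hV => un_surjective h𝔛 h𝔉 hV k) x

include h𝔉 in
theorem lt_eq (k : ℕ) : (FSch.levelMor 𝔛 h𝔛.1 (k + 1)).push.map ((sysOf h𝔛.1 𝔉).toPush k) ≫
    (FSch.pushCompare 𝔛 h𝔛.1 k).app ((FSch.levelMor 𝔛 h𝔛.1 k).pull.obj 𝔉) = lt h𝔛 𝔉 k := by
  have := epi_un h𝔛 h𝔉 (k + 1)
  exact (cancel_epi (un h𝔛 𝔉 (k + 1))).1 ((unit_toPush h𝔛.1 𝔉 k).trans (un_lt h𝔛 𝔉 k).symm)

theorem sec_ext (h𝔉 : FSch.IsCohF 𝔛 h𝔛.1 𝔉) {V : (𝔛.X 0).Opens} (x y : Sec 𝔉 V)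
    (h : ∀ k, app (un h𝔛 𝔉 k) V x = app (un h𝔛 𝔉 k) V y) : x = y := by
  have h1 : IsIso (toReal h𝔛.1 𝔉) := isIso_toReal h𝔛 𝔉 h𝔉
  have h2 : app (toReal h𝔛.1 𝔉) V x = app (toReal h𝔛.1 𝔉) V y := by
    refine K29.RLim.lim_ext _ _ _ fun k => ?_
    refine (app_toReal h𝔛.1 𝔉 k V x).trans (Eq.trans (h k) (app_toReal h𝔛.1 𝔉 k V y).symm)
  have h3 := congrArg (app (inv (toReal h𝔛.1 𝔉)) V) h2
  rw [← app_comp, ← app_comp, IsIso.hom_inv_id] at h3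
  exact h3

theorem sec_lift (h𝔉 : FSch.IsCohF 𝔛 h𝔛.1 𝔉) {V : (𝔛.X 0).Opens} (y : ∀ k, Sec (FF h𝔛 𝔉 k) V)
    (hy : ∀ k, app (lt h𝔛 𝔉 k) V (y (k + 1)) = y k) : ∃ x : Sec 𝔉 V, ∀ k, app (un h𝔛 𝔉 k) V x = y k := by
  have h1 : IsIso (toReal h𝔛.1 𝔉) := isIso_toReal h𝔛 𝔉 h𝔉
  obtain ⟨z, hz⟩ := K29.RLim.lim_lift (FSch.levelSysOf 𝔛 h𝔛.1 (sysOf h𝔛.1 𝔉).F (sysOf h𝔛.1 𝔉).toPush) (V := V) y
    fun k => by
      rw [FSch.levelSysOf_map_succ]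
      have := lt_eq h𝔛 h𝔉 k
      exact (congrArg (fun φ => app φ V (y (k + 1))) this).trans (hy k)
  refine ⟨app (inv (toReal h𝔛.1 𝔉)) V z, fun k => ?_⟩
  refine (app_toReal h𝔛.1 𝔉 k V _).symm.trans ?_
  have h2 : app (toReal h𝔛.1 𝔉) V (app (inv (toReal h𝔛.1 𝔉)) V z) = z := by
    rw [← app_comp, IsIso.inv_hom_id]
    rfl
  rw [h2]
  exact hz k

variable {A : Type u} [CommRing A] {ρ : A →+* O (𝔛.Osh h𝔛.1) ⊤} {r : ℕ} {a : Fin r → A} (hII : GenII h𝔛 ρ a)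

theorem isLimit_cone : Nonempty (IsLimit ((ftw hII h𝔉).cone (tS (𝔛.Osh h𝔛.1)) (un h𝔛 𝔉) (un_lt h𝔛 𝔉))) := by
  refine isLimit_of_sections _ fun V y hy => ?_
  have hy' : ∀ k, app (lt h𝔛 𝔉 k) V (y (k + 1)) = y k := fun k => by
    refine Eq.trans ?_ (hy k)
    rw [(ftw hII h𝔉).fsys_map]
    rfl
  obtain ⟨x, hx⟩ := sec_lift h𝔛 h𝔉 y hy'
  exact ⟨x, hx, fun z hz => sec_ext h𝔛 h𝔉 z x fun k => (hz k).trans (hx k).symm⟩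

/-- The affine opens. -/
abbrev BB : Set (Opens (𝔛.X 0).carrier) := {V | V ∈ (fcov h𝔛).B}

theorem isBasis_BB : Opens.IsBasis (BB h𝔛) := (𝔛.X 0).isBasis_affineOpens

theorem acyc {G : FSch.ModF 𝔛 h𝔛.1} (hG : ∀ U ∈ (fcov h𝔛).B, Cart (fcov h𝔛) G U) :
    SheafSeq.Acyc (BB h𝔛) ((tS (𝔛.Osh h𝔛.1)).obj G) := fun U hU i =>
  subsingleton_HU (hG U hU) hU le_rfl i

include h𝔉 in
theorem cart_FF (k : ℕ) (U : Opens (𝔛.X 0).carrier) (hU : U ∈ (fcov h𝔛).B) : Cart (fcov h𝔛) (FF h𝔛 𝔉 k) U :=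
  PushCoh.cart_push h𝔛 k (isQCoh_lv h𝔛 𝔉 h𝔉 k) hU

/-- The cohomology of `𝔉` is the limit of the cohomology of the `𝔉_k`. -/
theorem isLim (n : ℕ) (hML : ∀ m, m + 1 = n → (ftw hII h𝔉).UMLn (ZT (𝔛.X 0).carrier) (tS (𝔛.Osh h𝔛.1)) m) :
    (ftw hII h𝔉).IsLimn (ZT (𝔛.X 0).carrier) (tS (𝔛.Osh h𝔛.1)) n (un h𝔛 𝔉) := by
  obtain ⟨hL⟩ := isLimit_cone h𝔛 h𝔉 hII
  refine (ftw hII h𝔉).isLim _ _ n (un h𝔛 𝔉) (un_lt h𝔛 𝔉) hL ?_ ?_ hML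
  · refine SheafSeq.epi_D (isBasis_BB h𝔛) _ fun U hU k => ?_
    rw [(ftw hII h𝔉).fsys_map]
    exact lt_surjective h𝔛 h𝔉 (aff h𝔛 hU) k
  · intro n
    exact SheafSeq.ext_prod_bijective (isBasis_BB h𝔛) _ n (fun k : ℕ => ((ftw hII h𝔉).fsys (tS (𝔛.Osh h𝔛.1))).obj (op k))
      fun k => acyc h𝔛 (cart_FF h𝔛 h𝔉 k)

end K288.FLim
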