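import Groth.Agent.FCompl.K28.LevelBC
import Groth.Agent.FCompl.K29.FmlAff
import Groth.Agent.FSch.K181.FCls

/-!
# Direct images of coherent modules from the levels of a formal scheme

* `SBC.restrict`: base change along `A' → B'` is base change along `A → B` if `B' = B ⊗_A A'` (surjections);
* `isBC_of_sbc`: `SBC` implies `IsBC`;
* `cart_push`, `isCohF_push`: `(u_k)_* G` is cartesian for `G` quasi-coherent, coherent for `G` coherent on `X_k`.
-/

set_option autoImplicit false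
set_option linter.style.haveILetI false
universe u

open CategoryTheory TopologicalSpace Opposite TensorProduct AlgebraicGeometry CategoryTheory.Limits

noncomputable section

namespace K288.PushCoh

open K28 K29.RSec K29.RPull K29.Fml K181.BC K181.Pre K181.Good K181.Formal

section Alg

variable {A B A' B' : Type u} [CommRing A] [CommRing B] [CommRing A'] [CommRing B'] {ρ : A →+* B} {ρ' : A' →+* B'}
  {p : A →+* A'} {q : B →+* B'} {M Q : Type u} [AddCommGroup M] [Module A M] [Module A' M] [AddCommGroup Q]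
  [Module B Q] [Module B' Q] {g : M →+ Q}

theorem sbc_restrict (hM : ∀ (a : A) (m : M), a • m = p a • m) (hQ : ∀ (b : B) (x : Q), b • x = q b • x)
    (hp : Function.Surjective p) (hq : Function.Surjective q) (hc : ∀ a, q (ρ a) = ρ' (p a))
    (hk : RingHom.ker q ≤ (RingHom.ker p).map ρ) (h : SBC ρ' g) : SBC ρ g where
  smul a m := by rw [hM, h.smul, hQ, hc]
  span := by
    rw [eq_top_iff]
    intro x _
    refine h.induction (p := fun x => x ∈ Submodule.span B (Set.range g)) x (Submodule.zero_mem _)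
      (fun m => Submodule.subset_span ⟨m, rfl⟩) (fun b x hx => ?_) fun x y hx hy => Submodule.add_mem _ hx hy
    obtain ⟨b, rfl⟩ := hq b
    rw [← hQ]
    exact Submodule.smul_mem _ b hx
  lift P _ _ k hk' := by
    -- the submodule killed by `ker q`
    let P' : Submodule B P :=
      { carrier := {x | ∀ b ∈ RingHom.ker q, b • x = 0}
        add_mem' := fun {x y} hx hy b hb => by rw [smul_add, hx b hb, hy b hb, add_zero]
        zero_mem' := fun b _ => smul_zero b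
        smul_mem' := fun c x hx b hb => by rw [smul_comm, hx b hb, smul_zero] }
    have hmem : ∀ m, k m ∈ P' := fun m b hb => by
      refine Submodule.span_induction (p := fun b _ => b • k m = 0) ?_ (zero_smul _ _)
        (fun x y _ _ hx hy => by rw [add_smul, hx, hy, add_zero])
        (fun c x _ hx => by rw [smul_eq_mul, mul_smul, hx, smul_zero]) (hk hb)
      rintro _ ⟨a, ha, rfl⟩
      rw [← hk', hM, show p a = 0 from ha, zero_smul, map_zero]
    let s : B' → B := Function.surjInv hq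
    have hs : ∀ b', q (s b') = b' := Function.surjInv_eq hq
    have key : ∀ (b c : B) (x : P'), q b = q c → b • x = c • x := fun b c x hbc => by
      rw [← sub_eq_zero, ← sub_smul]
      exact Subtype.ext (x.2 (b - c) (by rw [RingHom.mem_ker, map_sub, hbc, sub_self]))
    letI : Module B' P' :=
      { smul := fun b' x => s b' • x
        one_smul := fun x => (key _ 1 x (by rw [hs, map_one])).trans (one_smul _ x)
        mul_smul := fun b c x => (key _ (s b * s c) x (by rw [hs, map_mul, hs, hs])).trans (mul_smul _ _ x)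
        smul_zero := fun b => smul_zero (s b)
        smul_add := fun b x y => smul_add (s b) x y
        add_smul := fun b c x => (key _ (s b + s c) x (by rw [hs, map_add, hs, hs])).trans (add_smul _ _ x)
        zero_smul := fun x => (key _ 0 x (by rw [hs, map_zero])).trans (zero_smul _ x) }
    have hsm : ∀ (b : B) (x : P'), q b • x = b • x := fun b x => key _ b x (hs _)
    let k₁ : M →+ P' :=
      { toFun := fun m => ⟨k m, hmem m⟩
        map_zero' := Subtype.ext (map_zero k)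
        map_add' := fun x y => Subtype.ext (map_add k x y) }
    obtain ⟨k', hk''⟩ := h.lift P' k₁ (fun a' m => by
      obtain ⟨a, rfl⟩ := hp a'
      rw [← hc, hsm, ← hM]
      exact Subtype.ext (hk' a m))
    refine ⟨{ toFun := fun x => (k' x).1, map_add' := fun x y => by rw [map_add]; rfl, map_smul' := fun b x => ?_ },
      fun m => congrArg Subtype.val (hk'' m)⟩
    rw [hQ, map_smul, hsm]
    rfl

theorem isBC_of_sbc {A B : Type u} [CommRing A] [CommRing B] {σ : A →+* B} {M N : Type u} [AddCommGroup M] [Module A M]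
    [AddCommGroup N] [Module B N] {f : M →ₛₗ[σ] N} (h : SBC σ f.toAddMonoidHom) : IsBC σ f where
  bij _ _ _ hσ f' hf' := by
    subst hσ
    rw [← isBaseChange_iff]
    apply SBC.isBaseChange
    have e : f'.toAddMonoidHom = f.toAddMonoidHom := AddMonoidHom.ext hf'
    rw [e]
    exact h

end Alg

variable {𝔛 : FSch.Sys.{u}} (h𝔛 : 𝔛.IsLocNoethFormal)

theorem ker_prO_le (k : ℕ) {U V : (𝔛.X 0).Opens} (hVU : V ≤ U) (hU : IsAffineOpen (𝔛.lvU h𝔛.1 0 U))
    (hV : IsAffineOpen (𝔛.lvU h𝔛.1 0 V)) :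
    RingHom.ker (prO h𝔛.1 k V) ≤ (RingHom.ker (prO h𝔛.1 k U)).map (resO (R := 𝔛.Osh h𝔛.1) hVU) := by
  have e1 : RingHom.ker (prO h𝔛.1 k V) = II h𝔛.1 V ^ (k + 1) := by
    ext x
    rw [mem_II_pow h𝔛 hV, RingHom.mem_ker]
  have e2 : RingHom.ker (prO h𝔛.1 k U) = II h𝔛.1 U ^ (k + 1) := by
    ext x
    rw [mem_II_pow h𝔛 hU, RingHom.mem_ker]
  have e3 : (II h𝔛.1 U).map (resO (R := 𝔛.Osh h𝔛.1) hVU) = II h𝔛.1 V := K919.AffFlat.map_II h𝔛 hU hV hVU
  rw [e1, e2, Ideal.map_pow, e3]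

theorem sbc_res_push (k : ℕ) {G : (𝔛.X k).Modules} (hG : Coh.IsQCoh G) {U V : (𝔛.X 0).Opens} (hVU : V ≤ U)
    (hU : IsAffineOpen (𝔛.lvU h𝔛.1 0 U)) (hV : IsAffineOpen (𝔛.lvU h𝔛.1 0 V)) :
    SBC (resO (R := 𝔛.Osh h𝔛.1) hVU) (res ((FSch.levelMor 𝔛 h𝔛.1 k).push.obj G) hVU) := by
  have h1 := LevelBC.sbc_res hG (lvU_mono h𝔛.1 k hVU) (isAffineOpen_lvU h𝔛 hU k) (isAffineOpen_lvU h𝔛 hV k)
  letI m1 : Module (O (𝔛.X k).sheaf (𝔛.lvU h𝔛.1 k U)) (Sec ((FSch.levelMor 𝔛 h𝔛.1 k).push.obj G) U) :=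
    inferInstanceAs (Module (O (𝔛.X k).sheaf (𝔛.lvU h𝔛.1 k U)) (Sec (R := (𝔛.X k).sheaf) G (𝔛.lvU h𝔛.1 k U)))
  letI m2 : Module (O (𝔛.X k).sheaf (𝔛.lvU h𝔛.1 k V)) (Sec ((FSch.levelMor 𝔛 h𝔛.1 k).push.obj G) V) :=
    inferInstanceAs (Module (O (𝔛.X k).sheaf (𝔛.lvU h𝔛.1 k V)) (Sec (R := (𝔛.X k).sheaf) G (𝔛.lvU h𝔛.1 k V)))
  exact sbc_restrict (ρ' := resO (R := (𝔛.X k).sheaf) (lvU_mono h𝔛.1 k hVU)) (p := prO h𝔛.1 k U) (q := prO h𝔛.1 k V)
    (fun _ _ => rfl) (fun _ _ => rfl) (prO_surjective h𝔛 hU k) (prO_surjective h𝔛 hV k)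
    (fun a => prO_res h𝔛.1 k hVU a) (ker_prO_le h𝔛 k hVU hU hV) h1

/-- Direct images of quasi-coherent modules are cartesian. -/
theorem cart_push (k : ℕ) {G : (𝔛.X k).Modules} (hG : Coh.IsQCoh G) {U : (𝔛.X 0).Opens} (hU : IsAffineOpen U) :
    Cart (fcov h𝔛) ((FSch.levelMor 𝔛 h𝔛.1 k).push.obj G) U :=
  ⟨hU, fun _ hV hVU => isBC_of_sbc (sbc_res_push h𝔛 k hG hVU (aff h𝔛 hU) (aff h𝔛 hV))⟩

theorem cartF_push (k : ℕ) {G : (𝔛.X k).Modules} (hG : Coh.IsCoh G) {U : (𝔛.X 0).Opens} (hU : IsAffineOpen U) :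
    CartF (fcov h𝔛) ((FSch.levelMor 𝔛 h𝔛.1 k).push.obj G) U := by
  refine ⟨cart_push h𝔛 k hG.1 hU, ?_⟩
  have h1 : Module.Finite (O (𝔛.X k).sheaf (𝔛.lvU h𝔛.1 k U)) (Sec (R := (𝔛.X k).sheaf) G (𝔛.lvU h𝔛.1 k U)) :=
    LevelBC.finite_sections hG (isAffineOpen_lvU h𝔛 (aff h𝔛 hU) k)
  letI : Algebra (O (𝔛.Osh h𝔛.1) U) (O (𝔛.X k).sheaf (𝔛.lvU h𝔛.1 k U)) := (prO h𝔛.1 k U).toAlgebra
  letI : Module (O (𝔛.X k).sheaf (𝔛.lvU h𝔛.1 k U)) (Sec ((FSch.levelMor 𝔛 h𝔛.1 k).push.obj G) U) :=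
    inferInstanceAs (Module (O (𝔛.X k).sheaf (𝔛.lvU h𝔛.1 k U)) (Sec (R := (𝔛.X k).sheaf) G (𝔛.lvU h𝔛.1 k U)))
  haveI : IsScalarTower (O (𝔛.Osh h𝔛.1) U) (O (𝔛.X k).sheaf (𝔛.lvU h𝔛.1 k U))
      (Sec ((FSch.levelMor 𝔛 h𝔛.1 k).push.obj G) U) := ⟨fun a b z => by rw [Algebra.smul_def, mul_smul]; rfl⟩
  have hfin' : Module.Finite (O (𝔛.Osh h𝔛.1) U) (O (𝔛.X k).sheaf (𝔛.lvU h𝔛.1 k U)) :=
    Module.Finite.of_surjective (Algebra.linearMap (O (𝔛.Osh h𝔛.1) U) (O (𝔛.X k).sheaf (𝔛.lvU h𝔛.1 k U)))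
      (prO_surjective h𝔛 (aff h𝔛 hU) k)
  have h2 : Module.Finite (O (𝔛.X k).sheaf (𝔛.lvU h𝔛.1 k U)) (Sec ((FSch.levelMor 𝔛 h𝔛.1 k).push.obj G) U) := h1
  exact Module.Finite.trans (O (𝔛.X k).sheaf (𝔛.lvU h𝔛.1 k U)) _

/-- Direct images of coherent modules from the levels are coherent. -/
theorem isCohF_push (k : ℕ) {G : (𝔛.X k).Modules} (hG : Coh.IsCoh G) :
    FSch.IsCohF 𝔛 h𝔛.1 ((FSch.levelMor 𝔛 h𝔛.1 k).push.obj G) :=
  (isCohF_iff h𝔛).2 fun x => by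
    obtain ⟨U, hU, hxU, -⟩ := (fcov h𝔛).exists_mem (show x ∈ (⊤ : Opens (𝔛.X 0)) from trivial)
    exact ⟨U, hxU, cartF_push h𝔛 k hG hU⟩

end K288.PushCoh
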