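import Groth.Agent.FSch.K288.TowerAbs

/-!
# Finiteness of the cohomology of the kernels of a tower, by transfer from another category

`W : Tw α a` a tower in `C`, `L ⊣ G` an adjunction with `G : C' ⥤ C` exact such that the kernels `W.K k` come from `C'`
(`IsIso (adj.unit.app (W.K k))`).  If the cohomology of the objects `G X`, `P X`, is finite and `P` satisfies the
Noetherian conditions of `GrAbs.eventually_generated`, then `H^n` of the kernels is finite and eventually generated.
-/

set_option autoImplicit false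
set_option linter.unusedSectionVars false
universe w v v' v'' u u' u''

open CategoryTheory CategoryTheory.Limits CategoryTheory.Abelian

noncomputable section

namespace K288.TowerAbs

open Groth.Agent.FormalB.GrAbs ActDelta K178.TowerAlg

variable {A : Type w} [CommRing A] {C : Type u} [Category.{v} C] [Abelian C] {α : Act A C} {r : ℕ} {a : Fin r → A}
  (W : Tw α a) {C' : Type u''} [Category.{v''} C'] [Abelian C'] {L : C ⥤ C'} {G : C' ⥤ C} (adj : L ⊣ G)
  [G.Additive] [PreservesFiniteLimits G] [PreservesFiniteColimits G]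
  {𝒜 : Type u'} [Category.{v'} 𝒜] [Abelian 𝒜] [HasExt.{w} 𝒜] (Z : 𝒜) (E : C ⥤ 𝒜) [E.Additive]
  [PreservesFiniteLimits E] [PreservesFiniteColimits E]

/-- The graded object in `C'`. -/
def Tw.grL (L : C ⥤ C') : Gr C' (Fin r) where
  obj k := L.obj (W.K k)
  x i k := L.map (W.y i k)
  comm i j n := by
    rw [← L.map_comp, ← L.map_comp]
    exact congrArg L.map (W.gr.comm i j n)

include adj in
theorem Tw.gen_grL (h : W.gr.Gen) : (W.grL L).Gen := by
  obtain ⟨n₀, h⟩ := h
  refine ⟨n₀, fun n hn Z f' hf => ?_⟩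
  let f : L.obj (W.K (n + 1)) ⟶ Z := f'
  change f = 0
  have h1 : adj.homEquiv _ _ f = 0 := h n hn _ _ fun i => by
    change W.y i n ≫ adj.homEquiv _ _ f = 0
    rw [← adj.homEquiv_naturality_left]
    have h2 : L.map (W.y i n) ≫ f = 0 := hf i
    rw [h2, adj.homEquiv_unit, G.map_zero, comp_zero]
  apply (adj.homEquiv _ _).injective
  rw [h1, adj.homEquiv_unit, G.map_zero, comp_zero]

theorem Tw.finG [IsNoetherianRing A] (P : C' → Prop)
    (hker : ∀ {X Y : C'} (f : X ⟶ Y), P X → P Y → P (kernel f))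
    (hcoker : ∀ {X Y : C'} (f : X ⟶ Y), P X → P Y → P (cokernel f))
    (hfin : ∀ (X : C'), P X → ∀ p, Module.Finite A (HX α Z E (G.obj X) p))
    (hnoeth : ∀ (r : ℕ) (G : Gr C' (Fin (r + 1))), (∀ n, P (G.obj n)) → G.Gen → G.ker.Gen)
    (hP : ∀ k, P (L.obj (W.K k))) (hiso : ∀ k, IsIso (adj.unit.app (W.K k))) (hgen : W.gr.Gen) (n : ℕ) :
    W.FinG Z E n := by
  -- the isomorphisms
  let e : ∀ k, HX α Z E (W.K k) n →ₗ[A] HX α Z E (G.obj (L.obj (W.K k))) n := fun k => hX α Z E (adj.unit.app (W.K k)) n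
  let e' : ∀ k, HX α Z E (G.obj (L.obj (W.K k))) n →ₗ[A] HX α Z E (W.K k) n := fun k =>
    hX α Z E (inv (adj.unit.app (W.K k))) n
  have he : ∀ k x, e' k (e k x) = x := fun k x => by
    refine (em_comp Z E (adj.unit.app (W.K k)) (inv (adj.unit.app (W.K k))) n x).symm.trans ?_
    rw [IsIso.hom_inv_id]
    exact em_id Z E _ n x
  have hey : ∀ i k x, e' (k + 1) (hX α Z E (G.map (L.map (W.y i k))) n x) = hX α Z E (W.y i k) n (e' k x) := by
    intro i k x
    refine (em_comp Z E (G.map (L.map (W.y i k))) (inv (adj.unit.app (W.K (k + 1)))) n x).symm.trans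
      (Eq.trans ?_ (em_comp Z E (inv (adj.unit.app (W.K k))) (W.y i k) n x))
    have h1 : G.map (L.map (W.y i k)) ≫ inv (adj.unit.app (W.K (k + 1))) = inv (adj.unit.app (W.K k)) ≫ W.y i k := by
      rw [IsIso.eq_inv_comp, ← Category.assoc]
      have h2 : adj.unit.app (W.K k) ≫ G.map (L.map (W.y i k)) = W.y i k ≫ adj.unit.app (W.K (k + 1)) :=
        (adj.unit.naturality (W.y i k)).symm
      rw [h2, Category.assoc, IsIso.hom_inv_id, Category.comp_id]
    rw [h1]
  constructor
  · intro k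
    have h1 := hfin _ (hP k) n
    exact Module.Finite.of_surjective (e' k) fun x => ⟨e k x, he k x⟩
  · obtain ⟨n₀, h⟩ := eventually_generated (comp (extDelta α Z E) G) P hker hcoker hfin hnoeth r (W.grL L) hP
      (W.gen_grL adj hgen) n
    refine ⟨n₀, fun k hk x _ => ?_⟩
    have h1 : e (k + 1) x ∈ (⨆ i, LinearMap.range (hX α Z E (G.map (L.map (W.y i k))) n) :
        Submodule A (HX α Z E (G.obj (L.obj (W.K (k + 1)))) n)) := h k hk trivial
    have h2 := Submodule.mem_map_of_mem (f := e' (k + 1)) h1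
    rw [he, Submodule.map_iSup] at h2
    refine (iSup_mono fun i => ?_ : _ ≤ ⨆ i, LinearMap.range (hX α Z E (W.y i k) n)) h2
    rintro _ ⟨_, ⟨z, rfl⟩, rfl⟩
    exact ⟨e' k z, (hey i k z).symm⟩

end K288.TowerAbs
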