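import Groth.Agent.FCompl.K28.RealLevel
import Groth.Agent.FSch.K288.LinH
import Groth.Agent.FSch.K288.PushCoh
import Groth.Agent.FSch.K288.TowerFin

/-!
# The tower `𝔉_k = (u_k)_* u_k^* 𝔉` of a coherent module on a formal scheme

`𝔛` locally Noetherian formal, `ρ : A → O(𝔛)`, `a i : A` generating the ideals of definition of all affine opens
(`GenII`).  `ftw : Tw (act ρ) a` the tower `𝔉_k` with `FSch.levelTrans`; `gen_gr`: its kernels are generated by the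
operators; `isCoh_K`: the kernels come from coherent modules on `X_0`.
-/

set_option autoImplicit false
set_option linter.style.haveILetI false
universe u

open CategoryTheory TopologicalSpace Opposite TensorProduct AlgebraicGeometry CategoryTheory.Limits

noncomputable section

namespace K288.FTower

open K28 K28.RealLevel K29.RSec K29.RPull K29.Fml K29.RExact K181.Good K181.Formal LinH TowerAbs ActDelta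

variable {𝔛 : FSch.Sys.{u}} (h𝔛 : 𝔛.IsLocNoethFormal)

/-- `𝔉_k`. -/
abbrev FF (𝔉 : FSch.ModF 𝔛 h𝔛.1) (k : ℕ) : FSch.ModF 𝔛 h𝔛.1 :=
  (FSch.levelMor 𝔛 h𝔛.1 k).push.obj ((FSch.levelMor 𝔛 h𝔛.1 k).pull.obj 𝔉)

/-- `𝔉 → 𝔉_k`. -/
abbrev un (𝔉 : FSch.ModF 𝔛 h𝔛.1) (k : ℕ) : 𝔉 ⟶ FF h𝔛 𝔉 k := (FSch.levelMor 𝔛 h𝔛.1 k).adj.unit.app 𝔉

/-- `𝔉_{k+1} → 𝔉_k`. -/
abbrev lt (𝔉 : FSch.ModF 𝔛 h𝔛.1) (k : ℕ) : FF h𝔛 𝔉 (k + 1) ⟶ FF h𝔛 𝔉 k := FSch.levelTrans 𝔛 h𝔛.1 𝔉 k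

theorem un_lt (𝔉 : FSch.ModF 𝔛 h𝔛.1) (k : ℕ) : un h𝔛 𝔉 (k + 1) ≫ lt h𝔛 𝔉 k = un h𝔛 𝔉 k := FSch.unit_levelTrans 𝔛 h𝔛.1 𝔉 k

theorem app_lt (𝔉 : FSch.ModF 𝔛 h𝔛.1) (k : ℕ) (U : (𝔛.X 0).Opens) (m : Sec 𝔉 U) :
    app (lt h𝔛 𝔉 k) U (app (un h𝔛 𝔉 (k + 1)) U m) = app (un h𝔛 𝔉 k) U m := by
  rw [← app_comp, un_lt]

section Coh

variable {𝔉 : FSch.ModF 𝔛 h𝔛.1} (h𝔉 : FSch.IsCohF 𝔛 h𝔛.1 𝔉) {U : (𝔛.X 0).Opens} (hU : IsAffineOpen (𝔛.lvU h𝔛.1 0 U))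

include h𝔉 hU

theorem un_surjective (k : ℕ) : Function.Surjective (app (un h𝔛 𝔉 k) U) :=
  ((K29.Fml.main h𝔛 h𝔉 hU).2.1 k).1

theorem un_eq_zero_iff (k : ℕ) (m : Sec 𝔉 U) : app (un h𝔛 𝔉 k) U m = 0 ↔
    m ∈ (II h𝔛.1 U ^ (k + 1) • ⊤ : Submodule (O (𝔛.Osh h𝔛.1) U) (Sec 𝔉 U)) :=
  ((K29.Fml.main h𝔛 h𝔉 hU).2.1 k).2 m

theorem lt_surjective (k : ℕ) : Function.Surjective (app (lt h𝔛 𝔉 k) U) := fun t => by
  obtain ⟨m, rfl⟩ := un_surjective h𝔛 h𝔉 hU k t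
  exact ⟨app (un h𝔛 𝔉 (k + 1)) U m, app_lt h𝔛 𝔉 k U m⟩

end Coh

theorem epi_lt {𝔉 : FSch.ModF 𝔛 h𝔛.1} (h𝔉 : FSch.IsCohF 𝔛 h𝔛.1 𝔉) (k : ℕ) : Epi (lt h𝔛 𝔉 k) :=
  (epi_iff_stMap _).2 fun x => (basis_aff 𝔛 h𝔛.1).surjective _ (fun _ hV => lt_surjective h𝔛 h𝔉 hV k) x

variable {A : Type u} [CommRing A] (ρ : A →+* O (𝔛.Osh h𝔛.1) ⊤) {r : ℕ} (a : Fin r → A)

/-- The action of `A` on the modules on `𝔛`. -/
abbrev fact (ρ : A →+* O (𝔛.Osh h𝔛.1) ⊤) : Act A (FSch.ModF 𝔛 h𝔛.1) := act (R := 𝔛.Osh h𝔛.1) ρ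

/-- The `a i` generate the ideals of definition. -/
def GenII : Prop :=
  ∀ U : (𝔛.X 0).Opens, IsAffineOpen (𝔛.lvU h𝔛.1 0 U) →
    II h𝔛.1 U = Ideal.span (Set.range fun i => glr (R := 𝔛.Osh h𝔛.1) U (ρ (a i)))

variable {h𝔛 ρ a} (hII : GenII h𝔛 ρ a) {𝔉 : FSch.ModF 𝔛 h𝔛.1} (h𝔉 : FSch.IsCohF 𝔛 h𝔛.1 𝔉)

include hII in
theorem glr_mem {U : (𝔛.X 0).Opens} (hU : IsAffineOpen (𝔛.lvU h𝔛.1 0 U)) (i : Fin r) :
    glr (R := 𝔛.Osh h𝔛.1) U (ρ (a i)) ∈ II h𝔛.1 U := by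
  rw [hII U hU]
  exact Ideal.subset_span ⟨i, rfl⟩

include hII h𝔉 in
theorem kill (i : Fin r) (k : ℕ) : kernel.ι (lt h𝔛 𝔉 k) ≫ (fact h𝔛 ρ).mul (a i) (FF h𝔛 𝔉 (k + 1)) = 0 := by
  refine (basis_aff 𝔛 h𝔛.1).hom_ext fun U hU s => ?_
  have hU' : IsAffineOpen (𝔛.lvU h𝔛.1 0 U) := hU
  have h0 : app (lt h𝔛 𝔉 k) U (app (kernel.ι (lt h𝔛 𝔉 k)) U s) = 0 := by
    rw [← app_comp, kernel.condition]
    rfl
  rw [app_comp]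
  obtain ⟨m, hm⟩ := un_surjective h𝔛 h𝔉 hU' (k + 1) (app (kernel.ι (lt h𝔛 𝔉 k)) U s)
  rw [← hm] at h0 ⊢
  rw [app_lt, un_eq_zero_iff h𝔛 h𝔉 hU'] at h0
  change glr U (ρ (a i)) • app (un h𝔛 𝔉 (k + 1)) U m = 0
  rw [← map_smul, un_eq_zero_iff h𝔛 h𝔉 hU', pow_succ', mul_smul]
  exact Submodule.smul_mem_smul (glr_mem hII hU' i) h0

include hII h𝔉 in
theorem kill0 (i : Fin r) : (fact h𝔛 ρ).mul (a i) (FF h𝔛 𝔉 0) = 0 := by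
  refine (basis_aff 𝔛 h𝔛.1).hom_ext fun U hU s => ?_
  have hU' : IsAffineOpen (𝔛.lvU h𝔛.1 0 U) := hU
  obtain ⟨m, rfl⟩ := un_surjective h𝔛 h𝔉 hU' 0 s
  change glr U (ρ (a i)) • app (un h𝔛 𝔉 0) U m = 0
  rw [← map_smul, un_eq_zero_iff h𝔛 h𝔉 hU', zero_add, pow_one]
  exact Submodule.smul_mem_smul (glr_mem hII hU' i) Submodule.mem_top

/-- The tower `𝔉_k`. -/
def ftw : Tw (fact h𝔛 ρ) a where
  F := FF h𝔛 𝔉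
  t := lt h𝔛 𝔉
  epi := epi_lt h𝔛 h𝔉
  kill := kill hII h𝔉
  kill0 := kill0 hII h𝔉

theorem un_μ (i : Fin r) (k : ℕ) : un h𝔛 𝔉 k ≫ (ftw hII h𝔉).μ i k = mul (ρ (a i)) 𝔉 ≫ un h𝔛 𝔉 (k + 1) := by
  rw [← un_lt, Category.assoc]
  have h1 : lt h𝔛 𝔉 k ≫ (ftw hII h𝔉).μ i k = mul (ρ (a i)) (FF h𝔛 𝔉 (k + 1)) := (ftw hII h𝔉).t_μ i k
  rw [h1]
  exact mul_naturality (ρ (a i)) (un h𝔛 𝔉 (k + 1))

theorem app_un_μ (i : Fin r) (k : ℕ) (U : (𝔛.X 0).Opens) (m : Sec 𝔉 U) :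
    app ((ftw hII h𝔉).μ i k) U (app (un h𝔛 𝔉 k) U m) = app (un h𝔛 𝔉 (k + 1)) U (glr U (ρ (a i)) • m) := by
  have h1 := congrArg (fun g : 𝔉 ⟶ FF h𝔛 𝔉 (k + 1) => app g U m) (un_μ hII h𝔉 i k)
  exact h1

theorem exists_sum {R M : Type*} [CommRing R] [AddCommGroup M] [Module R M] (b : Fin r → R) (N : Submodule R M)
    (m : M) (hm : m ∈ Ideal.span (Set.range b) • N) : ∃ n : Fin r → M, (∀ i, n i ∈ N) ∧ m = ∑ i, b i • n i := by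
  refine Submodule.smul_induction_on hm (fun c hc n hn => ?_) fun x y hx hy => ?_
  · obtain ⟨d, rfl⟩ := (Ideal.mem_span_range_iff_exists_fun).1 hc
    refine ⟨fun i => d i • n, fun i => Submodule.smul_mem _ _ hn, ?_⟩
    rw [Finset.sum_smul]
    exact Finset.sum_congr rfl fun i _ => by rw [smul_smul, mul_comm]
  · obtain ⟨n, hn, rfl⟩ := hx
    obtain ⟨n', hn', rfl⟩ := hy
    exact ⟨n + n', fun i => Submodule.add_mem _ (hn i) (hn' i), by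
      rw [← Finset.sum_add_distrib]
      exact Finset.sum_congr rfl fun i _ => (smul_add _ _ _).symm⟩

/-- The kernels are generated by the operators. -/
theorem gen_gr : (ftw hII h𝔉).gr.Gen := by
  refine ⟨0, fun k _ Z f' hf => ?_⟩
  let W := ftw hII h𝔉
  let f : W.K (k + 1) ⟶ Z := f'
  change f = 0
  refine (basis_aff 𝔛 h𝔛.1).hom_ext fun U hU s => ?_
  have hU' : IsAffineOpen (𝔛.lvU h𝔛.1 0 U) := hU
  obtain ⟨m, hm⟩ := un_surjective h𝔛 h𝔉 hU' (k + 2) (app (W.ι (k + 1)) U s)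
  have h0 : app (lt h𝔛 𝔉 (k + 1)) U (app (W.ι (k + 1)) U s) = 0 :=
    congrArg (fun g : W.K (k + 1) ⟶ FF h𝔛 𝔉 (k + 1) => app g U s) (W.ι_t (k + 1))
  rw [← hm, app_lt, un_eq_zero_iff h𝔛 h𝔉 hU', pow_succ', mul_smul, hII U hU'] at h0
  obtain ⟨n, hn, hmn⟩ := exists_sum _ _ _ h0
  have h1 : ∀ i, ∃ s' : Sec (W.K k) U, app (W.ι k) U s' = app (un h𝔛 𝔉 (k + 1)) U (n i) := fun i => by
    refine exists_kernel (lt h𝔛 𝔉 k) U _ ?_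
    rw [app_lt, un_eq_zero_iff h𝔛 h𝔉 hU', hII U hU']
    exact hn i
  choose s' hs' using h1
  have h2 : s = ∑ i, app (W.y i k) U (s' i) := by
    have hinj : Function.Injective (app (W.ι (k + 1)) U) := (mono_iff_app _).1 inferInstance U
    apply hinj
    rw [map_sum, ← hm, hmn, map_sum]
    refine Finset.sum_congr rfl fun i _ => ?_
    have h3 : app (W.ι (k + 1)) U (app (W.y i k) U (s' i)) = app (W.μ i (k + 1)) U (app (W.ι k) U (s' i)) :=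
      congrArg (fun g : W.K k ⟶ FF h𝔛 𝔉 (k + 2) => app g U (s' i)) (W.y_ι i k)
    rw [h3, hs', app_un_μ hII h𝔉]
  rw [h2, map_sum]
  refine (Finset.sum_eq_zero fun i _ => ?_).trans rfl
  exact congrArg (fun g : W.K k ⟶ Z => app g U (s' i)) (hf i)

end K288.FTower
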