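import Groth.Agent.Sga2lef.H94.PuncCoh
import Groth.Agent.Sga2lef.H95.Assemble
import Groth.Agent.Sga2lef.H95.DepthPush
import Groth.Agent.Sga2lef.H95.PushExact
import Groth.Agent.Sga2.FinReg

/-!
# Algebraization of a `t`-regular coherent formal module on the complement of an arbitrary closed subset

* `finite_HH` : `U = Spec A ∖ V(I)`, `A` a quotient of a regular ring: if `depth F_x ≥ n + 1` at all points `x` of `U`
  whose closure meets `V(I)` in codimension one, then `H^i(U, F)` is finite for `i ≤ n`.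
* `main` : the algebraization.
-/

set_option autoImplicit false
universe u

open CategoryTheory CategoryTheory.Limits AlgebraicGeometry Opposite TopologicalSpace

namespace K288.GenT

theorem finite_HH' (R : Type u) [CommRing R] [IsRegularRing R] (A : Type u) [CommRing A]
    [IsNoetherianRing A] (π : R →+* A) (hπ : Function.Surjective π) (I : Ideal A)
    (F : (LocCoh.puncturedOpen A I : Scheme.{u}).Modules) (hF : Coh.IsCoh F)
    (n : ℕ) (hdepth : ∀ x : (LocCoh.puncturedOpen A I : Scheme.{u}),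
      SGA2.relCodim I (show PrimeSpectrum A from x.1) = 1 →
      ((n + 1 : ℕ) : ℕ∞) ≤ LocCoh.depth
        ((LocCoh.puncturedOpen A I : Scheme.{u}).presheaf.stalk x)
        (F.presheaf.stalk x)) (i : ℕ) (hi : i ≤ n) :
    Module.Finite A (Coh.HH (LocCoh.puncturedOpen A I : Scheme.{u}) F i) := by
  have hUc : IsCompact (LocCoh.puncturedOpen A I : Set (Spec (CommRingCat.of A))) :=
    Groth.Agent.FormalA.InjSec.isCompact_opens _
  obtain ⟨M, _, _, hM, ⟨e⟩⟩ := Groth.Agent.FormalB.PuncTheta2.exists_finite_iso _ hUc F hF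
  have hlc := (Groth.Agent.S2930.result R A π hπ I M (n + 1)).2 (by
    intro p q hp hq hpq
    let x : (LocCoh.puncturedOpen A I : Scheme.{u}) := ⟨p, hp⟩
    have h1 := hdepth x (Groth.Agent.Sga2.FinReg.relCodim_eq_one I p q hp hq hpq)
    rw [← Groth.Agent.Sga2lef.H94.StalkDepth.depth_stalk_iso e x,
      Groth.Agent.Sga2lef.H94.StalkDepth.depth_theta_stalk _ M x p rfl] at h1
    exact h1)
  have h := Groth.Agent.Sga2lef.H94.PuncFin.finite_HH_le I M n hlc i hi
  exact Module.Finite.equiv (Groth.Agent.Sga2lef.H94.PuncCoh.hhEquiv e i)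

theorem finite_HH (R : Type u) [CommRing R] [IsRegularRing R] (A : Type u) [CommRing A]
    [IsNoetherianRing A] (π : R →+* A) (hπ : Function.Surjective π) (I : Ideal A)
    (U : (Spec (CommRingCat.of A)).Opens) (hU : U = LocCoh.puncturedOpen A I)
    (F : (U : Scheme.{u}).Modules) (hF : Coh.IsCoh F)
    (n : ℕ) (hdepth : ∀ x : (U : Scheme.{u}),
      SGA2.relCodim I (show PrimeSpectrum A from x.1) = 1 →
      ((n + 1 : ℕ) : ℕ∞) ≤ LocCoh.depth ((U : Scheme.{u}).presheaf.stalk x) (F.presheaf.stalk x))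
    (i : ℕ) (hi : i ≤ n) :
    Module.Finite A (Coh.HH (U : Scheme.{u}) F i) := by
  subst hU
  exact finite_HH' R A π hπ I F hF n hdepth i hi

open Groth.Agent.FormalB.ModPow Groth.Agent.FormalB.PrincTower Groth.Agent.FormalB.KQuot
  Groth.Agent.Sga2lef.H96.ModSysPush Groth.Agent.Sga2lef.H96.ModSysRec Groth.Agent.Sga2lef.H95.IdealBase
  Groth.Agent.Sga2lef.H95 Groth.Agent.Sga2lef.H95.Assemble

theorem main (A : Type u) [CommRing A] [IsNoetherianRing A] (t : A)
    [IsAdicComplete (Ideal.span {t}) A] (I : Ideal A) (U : (Spec (CommRingCat.of A)).Opens)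
    (hU : U = LocCoh.puncturedOpen A I)
    (𝔐 : FSch.ModSys (FSch.completionAlong (U : Scheme.{u}) (idl (Ideal.span {t}) U.ι)))
    (hcoh : 𝔐.IsCoh)
    (hex : ∀ n, ∃ w : Formal.smulMod A (pm 𝔐 (n + 1)) (t ^ (n + 1)) ≫
      Formal.smulMod A (pm 𝔐 (n + 1)) t = 0, (ShortComplex.mk _ _ w).Exact)
    (h0 : Module.Finite A (Coh.HH (U : Scheme.{u}) (pm 𝔐 0) 0))
    (h1 : Module.Finite A (Coh.HH (U : Scheme.{u}) (pm 𝔐 0) 1)) :
    ∃ F : (U : Scheme.{u}).Modules, Coh.IsCoh F ∧
      Nonempty (FSch.completionMod (idl (Ideal.span {t}) U.ι) F ≅ 𝔐) := by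
  subst hU
  have h𝓘 : ∀ V : (LocCoh.puncturedOpen A I : Scheme.{u}).affineOpens,
      (idl (Ideal.span {t}) (LocCoh.puncturedOpen A I).ι).ideal V =
        (Ideal.span {t}).map (Groth.Agent.FormalB.ModPowAff.toΓ A _ V.1) :=
    fun V => idl_ideal (Ideal.span {t}) (LocCoh.puncturedOpen A I).ι V
  have hfor := isFormal_toSys h𝓘 𝔐
  have hmono : ∀ n, Mono (mu hfor n) := fun n => by
    obtain ⟨w, hw⟩ := hex n
    exact RegExact.mono_mu_of_exact hfor n w hw
  have hUc : IsCompact (LocCoh.puncturedOpen A I : Set (Spec (CommRingCat.of A))) :=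
    Groth.Agent.FormalA.InjSec.isCompact_opens _
  obtain ⟨F, hF, ⟨e⟩⟩ := Groth.Agent.FormalB.PuncAlg.algebraize A _ t I
    (Groth.Agent.S0822.not_le _) hUc (toSys 𝔐) hfor
    (fun n => (isCoh_pm 𝔐 n (hcoh n)).1) hmono h0
    (fun n x => Groth.Agent.S0822.torsion_of_coh _ ((toSys 𝔐).obj (op n)) (isCoh_pm 𝔐 n (hcoh n)) x) 0 (by
      have : IsNoetherian A ((Groth.Agent.FormalB.HMod.HM A
          (LocCoh.puncturedOpen A I : Scheme.{u}) 1).obj
          ((toSys 𝔐).obj (op 0))) := @isNoetherian_of_isNoetherianRing_of_finite A _ _ _ _ _ h1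
      exact IsNoetherian.noetherian _)
  exact ⟨F, hF, nonempty_iso_of_completion h𝓘 𝔐 hF.1 e⟩

/-- A bound for the depth at the points of `Z` with `P (i z)` gives one for `i_* N` at the points of `X` with `P`. -/
theorem le_depth_push {X Z : Scheme.{u}} (i : Z ⟶ X) [IsClosedImmersion i] (N : Z.Modules) (n : ℕ∞) (P : X → Prop)
    (h : ∀ z : Z, P (i z) → n ≤ LocCoh.depth (Z.presheaf.stalk z) (N.presheaf.stalk z))
    (x : X) (hx : P x) : n ≤ LocCoh.depth (X.presheaf.stalk x)
      (((Scheme.Modules.pushforward i).obj N).presheaf.stalk x) := by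
  by_cases hr : x ∈ Set.range i
  · obtain ⟨z, rfl⟩ := hr
    rw [DepthPush.depth_push]
    exact h z hx
  · have h1 : Subsingleton (((Scheme.Modules.pushforward i).obj N).presheaf.stalk x) := by
      refine Groth.Agent.CycB.PushStalk.subsingleton_stalk_push i N x ?_
      rwa [i.isClosedEmbedding.isClosed_range.closure_eq]
    rw [DepthPush.depth_eq_top_of_subsingleton]
    exact le_top

theorem mem_basicOpen_iff (A : Type u) [CommRing A] (a : A) (x : PrimeSpectrum A) :
    (show Spec (CommRingCat.of A) from x) ∈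
      (Spec (CommRingCat.of A)).basicOpen ((Scheme.ΓSpecIso (CommRingCat.of A)).inv a) ↔ a ∉ x.asIdeal := by
  have h := basicOpen_eq_of_affine (R := CommRingCat.of A) a
  have h2 : (show Spec (CommRingCat.of A) from x) ∈
      (Spec (CommRingCat.of A)).basicOpen ((Scheme.ΓSpecIso (CommRingCat.of A)).inv a) ↔
      (show Spec (CommRingCat.of A) from x) ∈ PrimeSpectrum.basicOpen a := by rw [h]; exact Iff.rfl
  exact h2

theorem iSup_basicOpen_eq (A : Type u) [CommRing A] (I : Ideal A) :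
    (⨆ f : ↥I, (Spec (CommRingCat.of A)).basicOpen ((Scheme.ΓSpecIso (CommRingCat.of A)).inv f.1)) =
      LocCoh.puncturedOpen A I := by
  refine le_antisymm (iSup_le fun f x hx => ?_) fun x hx => ?_
  · intro (h : (I : Set A) ⊆ (show PrimeSpectrum A from x).asIdeal)
    exact (mem_basicOpen_iff A f.1 x).1 hx (h f.2)
  · have hx' : ¬ ((I : Set A) ⊆ (show PrimeSpectrum A from x).asIdeal) := hx
    obtain ⟨a, ha, hax⟩ := Set.not_subset.1 hx'
    exact Opens.mem_iSup.2 ⟨⟨a, ha⟩, (mem_basicOpen_iff A a x).2 hax⟩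

end K288.GenT
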