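import Groth.Agent.FSch.K288.FTower
import Groth.Agent.Divis.IdealComap
import Groth.Agent.AlgSp.K635.Thick

/-!
# Ideals of definition and adic morphisms

`f : 𝔛 ⟶ 𝔜` adic, `𝔛`, `𝔜` locally Noetherian formal, `V` affine open of `𝔜`, `U ≤ f⁻¹ V` affine open of `𝔛`:
`II U = II V · O(U)` (`II_eq`).
-/

set_option autoImplicit false
set_option linter.style.haveILetI false
universe u

open CategoryTheory TopologicalSpace Opposite AlgebraicGeometry CategoryTheory.Limits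

noncomputable section

namespace K288.IIAdic

open K29.RSec K29.RPull K29.Fml LinH

/-- The kernel of a closed immersion on sections, with an arbitrary target open. -/
theorem ker_appLE {X Y : Scheme.{u}} (i : X ⟶ Y) [QuasiCompact i] {W : Y.Opens} (hW : IsAffineOpen W) {V : X.Opens}
    (hV : V = i ⁻¹ᵁ W) : RingHom.ker (i.appLE W V hV.le).hom = i.ker.ideal ⟨W, hW⟩ := by
  subst hV
  rw [Scheme.Hom.ker_apply, Scheme.Hom.app_eq_appLE]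

section Level

variable {𝔛 : FSch.Sys.{u}} (h𝔛 : 𝔛.IsLocNoethFormal)

/-- The ideal of `X_0` in `X_1` on sections. -/
theorem ideal_ker_eq {U : (𝔛.X 0).Opens} (hU : IsAffineOpen (𝔛.lvU h𝔛.1 0 U)) :
    (𝔛.ι 0).ker.ideal ⟨𝔛.lvU h𝔛.1 1 U, isAffineOpen_lvU h𝔛 hU 1⟩ = (II h𝔛.1 U).map (prO h𝔛.1 1 U) := by
  have := (h𝔛.1 0).1
  rw [← ker_appLE (𝔛.ι 0) (isAffineOpen_lvU h𝔛 hU 1) (𝔛.lvU_succ h𝔛.1 0 U).symm]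
  ext z
  obtain ⟨x, rfl⟩ := prO_surjective h𝔛 hU 1 z
  have e1 : ((𝔛.ι 0).appLE (𝔛.lvU h𝔛.1 1 U) (𝔛.lvU h𝔛.1 0 U) (𝔛.lvU_succ h𝔛.1 0 U).symm.le).hom (prO h𝔛.1 1 U x) =
      prO h𝔛.1 0 U x := K919.AffBasic.tr_pr 𝔛 h𝔛.1 0 U x
  constructor
  · intro hz
    apply Ideal.mem_map_of_mem
    change prO h𝔛.1 0 U x = 0
    rw [← e1]
    exact hz
  · intro hz
    obtain ⟨y, hy, hyx⟩ := (Ideal.mem_map_iff_of_surjective (prO h𝔛.1 1 U) (prO_surjective h𝔛 hU 1)).1 hz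
    rw [← hyx]
    refine (K919.AffBasic.tr_pr 𝔛 h𝔛.1 0 U y).trans ?_
    exact hy

end Level

variable {𝔛 𝔜 : FSch.Sys.{u}} (h𝔛 : 𝔛.IsLocNoethFormal) (h𝔜 : 𝔜.IsLocNoethFormal) (f : 𝔛 ⟶ 𝔜)

/-- The comorphism of `f`. -/
abbrev fφ : ringSheaf (𝔜.Osh h𝔜.1) ⟶ ((Opens.map ((f : FSch.Hom 𝔛 𝔜).app 0).base).sheafPushforwardContinuous RingCat.{u}
    (Opens.grothendieckTopology (𝔜.X 0).carrier) (Opens.grothendieckTopology (𝔛.X 0).carrier)).obj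
      (ringSheaf (𝔛.Osh h𝔛.1)) :=
  (FSch.homMor f h𝔛.1 h𝔜.1).sharpR

/-- The comorphism on sections. -/
abbrev shO (V : (𝔜.X 0).Opens) : O (𝔜.Osh h𝔜.1) V →+*
    O (𝔛.Osh h𝔛.1) (pre ((f : FSch.Hom 𝔛 𝔜).app 0).base V) := cm (fφ h𝔛 h𝔜 f) V

theorem prO_shO (n : ℕ) (V : (𝔜.X 0).Opens) (s : O (𝔜.Osh h𝔜.1) V) :
    prO h𝔛.1 n (pre ((f : FSch.Hom 𝔛 𝔜).app 0).base V) (shO h𝔛 h𝔜 f V s) =
      (((f : FSch.Hom 𝔛 𝔜).app n).appLE (𝔜.lvU h𝔜.1 n V) (𝔛.lvU h𝔛.1 n (((f : FSch.Hom 𝔛 𝔜).app 0) ⁻¹ᵁ V))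
        (FSch.Hom.lvU_preimage f h𝔛.1 h𝔜.1 n V).ge).hom (prO h𝔜.1 n V s) := by
  have h1 := congrArg (fun g => (g.hom.app (op V)).hom s) (FSch.Hom.sharp_proj f h𝔛.1 h𝔜.1 n)
  exact h1

/-- The comorphism on sections, restricted. -/
def shR {V : (𝔜.X 0).Opens} {U : (𝔛.X 0).Opens} (e : U ≤ pre ((f : FSch.Hom 𝔛 𝔜).app 0).base V) :
    O (𝔜.Osh h𝔜.1) V →+* O (𝔛.Osh h𝔛.1) U := (resO (R := 𝔛.Osh h𝔛.1) e).comp (shO h𝔛 h𝔜 f V)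

theorem lvU_le {V : (𝔜.X 0).Opens} {U : (𝔛.X 0).Opens} (e : U ≤ pre ((f : FSch.Hom 𝔛 𝔜).app 0).base V) (n : ℕ) :
    𝔛.lvU h𝔛.1 n U ≤ ((f : FSch.Hom 𝔛 𝔜).app n) ⁻¹ᵁ (𝔜.lvU h𝔜.1 n V) :=
  (lvU_mono h𝔛.1 n e).trans (FSch.Hom.lvU_preimage f h𝔛.1 h𝔜.1 n V).ge

/-- The comorphism of `f n` on sections. -/
def apf {V : (𝔜.X 0).Opens} {U : (𝔛.X 0).Opens} (e : U ≤ pre ((f : FSch.Hom 𝔛 𝔜).app 0).base V) (n : ℕ) :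
    O (𝔜.X n).sheaf (𝔜.lvU h𝔜.1 n V) →+* O (𝔛.X n).sheaf (𝔛.lvU h𝔛.1 n U) :=
  (((f : FSch.Hom 𝔛 𝔜).app n).appLE (𝔜.lvU h𝔜.1 n V) (𝔛.lvU h𝔛.1 n U) (lvU_le h𝔛 h𝔜 f e n)).hom

theorem prO_shR {V : (𝔜.X 0).Opens} {U : (𝔛.X 0).Opens} (e : U ≤ pre ((f : FSch.Hom 𝔛 𝔜).app 0).base V) (n : ℕ)
    (s : O (𝔜.Osh h𝔜.1) V) : prO h𝔛.1 n U (shR h𝔛 h𝔜 f e s) = apf h𝔛 h𝔜 f e n (prO h𝔜.1 n V s) := by
  change prO h𝔛.1 n U (resO (R := 𝔛.Osh h𝔛.1) e (shO h𝔛 h𝔜 f V s)) = _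
  rw [prO_res, prO_shO]
  have h1 := Scheme.Hom.appLE_map ((f : FSch.Hom 𝔛 𝔜).app n) (FSch.Hom.lvU_preimage f h𝔛.1 h𝔜.1 n V).ge
    (homOfLE (lvU_mono h𝔛.1 n e)).op
  exact congr($(congrArg CommRingCat.Hom.hom h1) (prO h𝔜.1 n V s))

variable {f} (hf : FSch.IsAdicHom f)

include hf in
/-- The ideal of definition upstairs is generated by the one downstairs. -/
theorem II_eq {V : (𝔜.X 0).Opens} {U : (𝔛.X 0).Opens} (hV : IsAffineOpen (𝔜.lvU h𝔜.1 0 V))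
    (hU : IsAffineOpen (𝔛.lvU h𝔛.1 0 U)) (e : U ≤ pre ((f : FSch.Hom 𝔛 𝔜).app 0).base V) :
    II h𝔛.1 U = (II h𝔜.1 V).map (shR h𝔛 h𝔜 f e) := by
  have hc := isAdicComplete_II h𝔛 hU
  have hN := isNoetherianRing_O h𝔛 hU
  symm
  refine K919.AlgFlat.map_eq_of_le_sup_sq _ _ (IsAdicComplete.le_jacobson_bot _) (IsNoetherian.noetherian _) ?_ ?_
  · rw [Ideal.map_le_iff_le_comap]
    intro s hs
    change prO h𝔛.1 0 U (shR h𝔛 h𝔜 f e s) = 0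
    rw [prO_shR, show prO h𝔜.1 0 V s = 0 from hs, map_zero]
  · intro x hx
    have := (h𝔜.1 0).1
    have h1 : prO h𝔛.1 1 U x ∈ (𝔛.ι 0).ker.ideal ⟨𝔛.lvU h𝔛.1 1 U, isAffineOpen_lvU h𝔛 hU 1⟩ := by
      rw [ideal_ker_eq h𝔛 hU]
      exact Ideal.mem_map_of_mem _ hx
    rw [K635.Thick.ker_of_isPullback (hf 0)] at h1
    have h2 : (((𝔜.ι 0).ker.comap ((f : FSch.Hom 𝔛 𝔜).app 1)).ideal
        ⟨𝔛.lvU h𝔛.1 1 U, isAffineOpen_lvU h𝔛 hU 1⟩ : Ideal (O (𝔛.X 1).sheaf (𝔛.lvU h𝔛.1 1 U))) =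
        ((II h𝔜.1 V).map (prO h𝔜.1 1 V)).map (apf h𝔛 h𝔜 f e 1) := by
      have h3 := Groth.Agent.Divis.IdealComap.ideal_comap (𝔜.ι 0).ker ((f : FSch.Hom 𝔛 𝔜).app 1)
        ⟨𝔜.lvU h𝔜.1 1 V, isAffineOpen_lvU h𝔜 hV 1⟩ ⟨𝔛.lvU h𝔛.1 1 U, isAffineOpen_lvU h𝔛 hU 1⟩ (lvU_le h𝔛 h𝔜 f e 1)
      rw [ideal_ker_eq h𝔜 hV] at h3
      exact h3
    have h3 : ((II h𝔜.1 V).map (prO h𝔜.1 1 V)).map (apf h𝔛 h𝔜 f e 1) =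
        ((II h𝔜.1 V).map (shR h𝔛 h𝔜 f e)).map (prO h𝔛.1 1 U) := by
      rw [Ideal.map_map, Ideal.map_map]
      congr 1
      exact RingHom.ext fun s => (prO_shR h𝔛 h𝔜 f e 1 s).symm
    replace h1 : prO h𝔛.1 1 U x ∈ ((II h𝔜.1 V).map (shR h𝔛 h𝔜 f e)).map (prO h𝔛.1 1 U) := by
      rw [← h3, ← h2]
      exact h1
    rw [Ideal.mem_map_iff_of_surjective _ (prO_surjective h𝔛 hU 1)] at h1
    obtain ⟨w, hw, hwx⟩ := h1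
    have h4 : x = w + (x - w) := by abel
    rw [h4]
    refine Submodule.add_mem_sup hw ?_
    have h5 := (mem_II_pow h𝔛 hU 1 (x - w)).2 (by rw [map_sub, hwx, sub_self])
    exact h5

end K288.IIAdic
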