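import Groth.Agent.FSch.K288.ActDelta
import Groth.Agent.FSch.K178.TowerAlg

/-!
# Towers in an abelian category with an action of a ring, and the operators on their cohomology

`Tw α a`: a tower `F k`, `t k : F (k + 1) ↠ F k` in an abelian category such that the elements `a i` of the acting ring
kill `ker (t k)` and `F 0`.  Then multiplication by `a i` on `F (k + 1)` factors through `μ i k : F k ⟶ F (k + 1)`,
which induces `y i k : ker (t k) ⟶ ker (t (k + 1))`.

* `Tw.gr : Gr C (Fin r)`, the kernels with the operators `y`;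
* `Tw.sys : K178.TowerAlg.Sys`, the tower `H^n(F k)` with the operators `H^n(μ i k)`;
* `Tw.uml`: Mittag-Leffler from the finiteness of `H^{n+1}` of the kernels;
* `Tw.step`: goodness of the filtration of the limit from the finiteness of `H^n` of the kernels.
-/

set_option autoImplicit false
set_option linter.unusedSectionVars false
universe w v v' v'' u u' u''

open CategoryTheory CategoryTheory.Limits CategoryTheory.Abelian

noncomputable section

namespace K288.TowerAbs

open Groth.Agent.FormalB.GrAbs ActDelta K178.TowerAlg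

variable {A : Type w} [CommRing A] {C : Type u} [Category.{v} C] [Abelian C] (α : Act A C) {r : ℕ} (a : Fin r → A)

/-- A tower whose graded pieces are killed by the `a i`. -/
structure Tw where
  /-- the objects -/
  F : ℕ → C
  /-- the transition maps -/
  t : ∀ k, F (k + 1) ⟶ F k
  epi : ∀ k, Epi (t k)
  kill : ∀ i k, kernel.ι (t k) ≫ α.mul (a i) (F (k + 1)) = 0
  kill0 : ∀ i, α.mul (a i) (F 0) = 0

attribute [instance] Tw.epi

variable {α a} (W : Tw α a)

namespace Tw

/-- The operators. -/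
def μ (i : Fin r) (k : ℕ) : W.F k ⟶ W.F (k + 1) := Abelian.epiDesc (W.t k) (α.mul (a i) (W.F (k + 1))) (W.kill i k)

@[reassoc]
theorem t_μ (i : Fin r) (k : ℕ) : W.t k ≫ W.μ i k = α.mul (a i) (W.F (k + 1)) := Abelian.comp_epiDesc _ _ _

@[reassoc]
theorem μ_t (i : Fin r) (k : ℕ) : W.μ i k ≫ W.t k = α.mul (a i) (W.F k) := by
  rw [← cancel_epi (W.t k), t_μ_assoc, α.nat]

theorem t_μ_comm (i : Fin r) (k : ℕ) : W.t k ≫ W.μ i k = W.μ i (k + 1) ≫ W.t (k + 1) := by
  rw [t_μ, μ_t]

theorem μ_μ (i j : Fin r) (k : ℕ) : W.μ i k ≫ W.μ j (k + 1) = W.μ j k ≫ W.μ i (k + 1) := by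
  rw [← cancel_epi (W.t k), t_μ_assoc, t_μ_assoc, ← cancel_epi (W.t (k + 1))]
  rw [← Category.assoc, ← Category.assoc, α.nat, α.nat, Category.assoc, Category.assoc, t_μ, t_μ, ← α.mul_mul,
    ← α.mul_mul, _root_.mul_comm]

/-- The kernels. -/
def K (k : ℕ) : C := kernel (W.t k)

/-- The inclusion of the kernel. -/
def ι (k : ℕ) : W.K k ⟶ W.F (k + 1) := kernel.ι (W.t k)

instance (k : ℕ) : Mono (W.ι k) := inferInstanceAs (Mono (kernel.ι (W.t k)))

@[reassoc]
theorem ι_t (k : ℕ) : W.ι k ≫ W.t k = 0 := kernel.condition _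

/-- The operators on the kernels. -/
def y (i : Fin r) (k : ℕ) : W.K k ⟶ W.K (k + 1) :=
  kernel.map (W.t k) (W.t (k + 1)) (W.μ i (k + 1)) (W.μ i k) (W.t_μ_comm i k)

@[reassoc]
theorem y_ι (i : Fin r) (k : ℕ) : W.y i k ≫ W.ι (k + 1) = W.ι k ≫ W.μ i (k + 1) := kernel.lift_ι _ _ _

/-- The kernels with the operators. -/
def gr : Gr C (Fin r) where
  obj := W.K
  x := W.y
  comm i j n := by
    rw [← cancel_mono (W.ι (n + 1 + 1)), Category.assoc, Category.assoc, y_ι, y_ι, y_ι_assoc, y_ι_assoc, μ_μ]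

/-- `0 → K_k → F_{k+1} → F_k → 0`. -/
def ses (k : ℕ) : ShortComplex C := ShortComplex.mk (W.ι k) (W.t k) (W.ι_t k)

theorem ses_shortExact (k : ℕ) : (W.ses k).ShortExact := by
  have : Mono (W.ses k).f := inferInstanceAs (Mono (W.ι k))
  have : Epi (W.ses k).g := inferInstanceAs (Epi (W.t k))
  exact ShortComplex.ShortExact.mk (ShortComplex.exact_of_f_is_kernel _ (kernelIsKernel (W.t k)))

/-- The operators as maps of short exact sequences. -/
def sesMap (i : Fin r) (k : ℕ) : W.ses k ⟶ W.ses (k + 1) where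
  τ₁ := W.y i k
  τ₂ := W.μ i (k + 1)
  τ₃ := W.μ i k
  comm₁₂ := W.y_ι i k
  comm₂₃ := (W.t_μ_comm i k).symm

variable {𝒜 : Type u'} [Category.{v'} 𝒜] [Abelian 𝒜] [HasExt.{w} 𝒜] (Z : 𝒜) (E : C ⥤ 𝒜) [E.Additive]
  [PreservesFiniteLimits E] [PreservesFiniteColimits E] (n : ℕ)

/-- The tower of cohomology groups with the operators. -/
def sys : Sys a (fun k => HX α Z E (W.F k) n) :=
  Sys.ofSteps (fun k => hX α Z E (W.t k) n) (fun i k => hX α Z E (W.μ i k) n)
    (fun i k m => by
      refine (em_comp Z E (W.μ i k) (W.t k) n m).symm.trans ?_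
      rw [μ_t]
      rfl)
    (fun i k m => by
      refine (em_comp Z E (W.t k) (W.μ i k) n m).symm.trans ?_
      rw [t_μ]
      rfl)
    (fun i m => by
      change em Z E (α.mul (a i) (W.F 0)) n m = 0
      rw [W.kill0, em_zero])

theorem sys_t (k : ℕ) : (W.sys Z E n).t (Nat.le_succ k) = hX α Z E (W.t k) n := Sys.ofSteps_t _ _ _ _ _ k

theorem sys_x (i : Fin r) (k : ℕ) : (W.sys Z E n).x i k = hX α Z E (W.μ i k) n := rfl

/-- `H^n` of the kernels is finite and eventually generated by the operators. -/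
structure FinG : Prop where
  fin : ∀ k, Module.Finite A (HX α Z E (W.K k) n)
  gen : ∃ n₀ : ℕ, ∀ k, n₀ ≤ k → (⊤ : Submodule A (HX α Z E (W.K (k + 1)) n)) ≤
    ⨆ i, LinearMap.range (hX α Z E (W.y i k) n)

theorem y_comm (i j : Fin r) (k : ℕ) (m : HX α Z E (W.K k) n) :
    hX α Z E (W.y i (k + 1)) n (hX α Z E (W.y j k) n m) = hX α Z E (W.y j (k + 1)) n (hX α Z E (W.y i k) n m) := by
  refine (em_comp Z E (W.y j k) (W.y i (k + 1)) n m).symm.trans
    (Eq.trans ?_ (em_comp Z E (W.y i k) (W.y j (k + 1)) n m))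
  exact congrArg (fun φ => em Z E φ n m) (W.gr.comm j i k)

theorem uml [IsNoetherianRing A] (h : W.FinG Z E (n + 1)) : ∃ c, (W.sys Z E n).UML c := by
  refine Sys.exists_uml (W.sys Z E n) (fun i k => hX α Z E (W.y i k) (n + 1)) (fun i j k m => W.y_comm Z E (n + 1) i j k m)
    h.fin h.gen (fun k => dX α Z E (W.ses_shortExact k) n) (fun i k m => ?_) (fun k m hm => ?_)
  · exact (ed_naturality Z E (W.ses_shortExact k) (W.ses_shortExact (k + 1)) (W.sesMap i k) n m).symm
  · rw [sys_t]
    exact (extDelta α Z E).exact₃ (W.ses_shortExact k) n m hm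

theorem exists_step [IsNoetherianRing A] (h : W.FinG Z E n) : ∃ k₀, (W.sys Z E n).Step k₀ := by
  refine Sys.exists_step (W.sys Z E n) (fun i k => hX α Z E (W.y i k) n) (fun V hV => ?_)
    (fun k => hX α Z E (W.ι k) n) (fun i k m => ?_) (fun k m hm => ?_)
  · have := h.fin
    exact Groth.Agent.FormalB.GrAlg.exists_generated_submodule (A := A) (ι := Fin r)
      (M := fun k => HX α Z E (W.K k) n) (fun i k => hX α Z E (W.y i k) n)
      (fun i j k m => W.y_comm Z E n i j k m) h.fin h.gen V hV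
  · refine (em_comp Z E (W.y i k) (W.ι (k + 1)) n m).symm.trans (Eq.trans ?_ (em_comp Z E (W.ι k) (W.μ i (k + 1)) n m))
    rw [y_ι]
  · rw [sys_t] at hm
    exact (extDelta α Z E).exact₂ (W.ses_shortExact k) n m hm

/-- The cohomology of the terms of the tower is finite. -/
theorem finite [IsNoetherianRing A] (h : W.FinG Z E n) (h0 : Module.Finite A (HX α Z E (W.F 0) n)) (k : ℕ) :
    Module.Finite A (HX α Z E (W.F k) n) := by
  induction k with
  | zero => exact h0
  | succ k ih =>
    have h1 := h.fin k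
    have : Function.Exact (hX α Z E (W.ι k) n) (hX α Z E (W.t k) n) := fun m => by
      constructor
      · intro hm
        exact (extDelta α Z E).exact₂ (W.ses_shortExact k) n m hm
      · rintro ⟨x, rfl⟩
        refine (em_comp Z E (W.ι k) (W.t k) n x).symm.trans ?_
        rw [ι_t, em_zero]
        rfl
    have h2 : IsNoetherian A (HX α Z E (W.F (k + 1)) n) := isNoetherian_of_range_eq_ker _ _ this.linearMap_ker_eq.symm
    infer_instance

end Tw

end K288.TowerAbs
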