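import Groth.Agent.FSch.K288.TowerML
import Groth.Agent.Ega3A.ExtLim

/-!
# The cohomology of the limit of a tower

`Tw.fsys`: the sequence of objects `E (F k)`; `Tw.cone`; `Tw.isLim`: if `E L` is the limit of `E (F k)`, `1 - shift` is an
epimorphism and `Ext` commutes with the product of the `E (F k)`, and the tower satisfies uniform Mittag-Leffler in degree
`n - 1`, then `H^n(L)` is the limit of the `H^n(F k)` (`K178.TowerAlg.IsLim`).
-/

set_option autoImplicit false
set_option linter.unusedSectionVars false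
universe w v v' v'' u u' u''

open CategoryTheory CategoryTheory.Limits CategoryTheory.Abelian Opposite

noncomputable section

namespace K288.TowerAbs

open Groth.Agent.FormalB.GrAbs ActDelta K178.TowerAlg Groth.Agent.Ega3A

variable {A : Type w} [CommRing A] {C : Type u} [Category.{v} C] [Abelian C] {α : Act A C} {r : ℕ} {a : Fin r → A}
  (W : Tw α a) {𝒜 : Type u'} [Category.{v'} 𝒜] [Abelian 𝒜] [HasExt.{w} 𝒜] (Z : 𝒜) (E : C ⥤ 𝒜) [E.Additive]
  [PreservesFiniteLimits E] [PreservesFiniteColimits E] (n : ℕ)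

theorem Tw.gsys_map {i j : ℕ} (h : i ≤ j) (f : op j ⟶ op i) (x : Ext Z (E.obj (W.F j)) n) :
    (W.gsys Z E n).map f x = (W.sys Z E n).t h x := by
  have : f = (homOfLE h).op := Subsingleton.elim _ _
  subst this
  exact W.tr_gsys Z E n h x

variable {n} in
theorem Tw.isMittagLeffler_gsys (h : W.UMLn Z E n) :
    ((W.gsys Z E n) ⋙ forget AddCommGrpCat).IsMittagLeffler := by
  obtain ⟨c, hc⟩ := h
  rintro ⟨i⟩
  refine ⟨op (i + c), (homOfLE (Nat.le_add_right i c)).op, ?_⟩
  rintro ⟨k⟩ g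
  have hik : i ≤ k := leOfHom g.unop
  rintro _ ⟨x, rfl⟩
  obtain ⟨l, hl, hx⟩ := (W.sys Z E n).exists_family hc i x
  refine ⟨l k, ?_⟩
  refine (W.gsys_map Z E n hik g (l k)).trans (Eq.trans ?_ (W.gsys_map Z E n (Nat.le_add_right i c) _ x).symm)
  exact (hl i k hik).trans hx

variable {n} in
theorem Tw.exists_sub_shift (h : W.UMLn Z E n) (t : ∀ k, Ext Z (E.obj (W.F k)) n) :
    ∃ s : ∀ k, Ext Z (E.obj (W.F k)) n, ∀ k, s k - em Z E (W.t k) n (s (k + 1)) = t k := by
  obtain ⟨s, hs⟩ := MLNat.exists_sub_shift (W.isMittagLeffler_gsys Z E h) t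
  refine ⟨s, fun k => ?_⟩
  have h2 : (W.gsys Z E n).map (homOfLE (Nat.le_succ k)).op = AddCommGrpCat.ofHom (em Z E (W.t k) n) :=
    Functor.ofOpSequence_map_homOfLE_succ _ k
  have h3 := hs k
  rw [h2] at h3
  exact h3

/-- The sequence of objects `E (F k)`. -/
def Tw.fsys : ℕᵒᵖ ⥤ 𝒜 := Functor.ofOpSequence (X := fun k => E.obj (W.F k)) (fun k => E.map (W.t k))

theorem Tw.fsys_map (k : ℕ) : (W.fsys E).map (homOfLE (Nat.le_succ k)).op = E.map (W.t k) :=
  Functor.ofOpSequence_map_homOfLE_succ _ k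

/-- A cone over the sequence. -/
def Tw.cone {L : C} (p : ∀ k, L ⟶ W.F k) (hp : ∀ k, p (k + 1) ≫ W.t k = p k) : Cone (W.fsys E) where
  pt := E.obj L
  π := NatTrans.ofOpSequence (fun k => E.map (p k)) fun k => by
    have e : (W.fsys E).map (homOfLE (Nat.le_add_right k 1)).op = E.map (W.t k) := W.fsys_map E k
    rw [e]
    change 𝟙 _ ≫ E.map (p k) = E.map (p (k + 1)) ≫ E.map (W.t k)
    rw [Category.id_comp, ← E.map_comp, hp]

theorem Tw.cone_π {L : C} (p : ∀ k, L ⟶ W.F k) (hp : ∀ k, p (k + 1) ≫ W.t k = p k) (k : ℕ) :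
    (W.cone E p hp).π.app (op k) = E.map (p k) := rfl

/-- `H^n(L)` with the maps to the `H^n(F k)` is the limit. -/
def Tw.IsLimn {L : C} (p : ∀ k, L ⟶ W.F k) : Prop := IsLim (W.sys Z E n) (fun k => hX α Z E (p k) n)

/-- The cohomology of the limit. -/
theorem Tw.isLim {L : C} (p : ∀ k, L ⟶ W.F k) (hp : ∀ k, p (k + 1) ≫ W.t k = p k)
    (hL : IsLimit (W.cone E p hp)) [HasLimit (W.fsys E)] [HasProduct (fun k : ℕ => (W.fsys E).obj (op k))]
    (hD : Epi (ExtLim.D (W.fsys E)))
    (hb : ∀ n, Function.Bijective (fun (x : Ext Z (∏ᶜ fun k : ℕ => (W.fsys E).obj (op k)) n) (k : ℕ) =>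
      x.comp (Ext.mk₀ (Pi.π (fun k : ℕ => (W.fsys E).obj (op k)) k)) (add_zero n)))
    (hML : ∀ m, m + 1 = n → W.UMLn Z E m) :
    W.IsLimn Z E n p := by
  let e : E.obj L ≅ limit (W.fsys E) := hL.conePointUniqueUpToIso (limit.isLimit _)
  have he : ∀ k : ℕ, e.hom ≫ limit.π (W.fsys E) (op k) = E.map (p k) := fun k =>
    hL.conePointUniqueUpToIso_hom_comp (limit.isLimit (W.fsys E)) (op k)
  have he' : ∀ k : ℕ, limit.π (W.fsys E) (op k) = e.inv ≫ E.map (p k) := fun k =>
    (Iso.eq_inv_comp e).2 (he k)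
  constructor
  · intro k l
    refine (congrArg (fun f => f (em Z E (p (k + 1)) n l)) (W.sys_t Z E n k)).trans ?_
    refine (em_comp Z E (p (k + 1)) (W.t k) n l).symm.trans ?_
    rw [hp]
    rfl
  · intro l hl
    have hl' : ∀ k, em Z E (p k) n l = 0 := hl
    cases n with
    | zero =>
      obtain ⟨f, rfl⟩ := (Ext.mk₀_bijective _ _).surjective l
      have : f = 0 := by
        refine hL.hom_ext fun k => ?_
        obtain ⟨k⟩ := k
        have h1 := hl' k
        rw [em_apply, Ext.mk₀_comp_mk₀] at h1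
        have h2 : f ≫ E.map (p k) = 0 := (Ext.mk₀_bijective _ _).injective (h1.trans (Ext.mk₀_zero _ _).symm)
        exact h2.trans zero_comp.symm
      rw [this]
      exact Ext.mk₀_zero Z (E.obj L)
    | succ m =>
      have hs := W.exists_sub_shift Z E (hML m rfl)
      have h1 : Ext.comp l (Ext.mk₀ e.hom) (add_zero (m + 1)) = 0 := by
        refine ExtLim.ext_eq_zero (W.fsys E) Z m hD (hb m) (hb (m + 1)).1 (fun t => ?_) _ fun k => ?_
        · obtain ⟨s, hs⟩ := hs t
          refine ⟨s, fun k => ?_⟩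
          have e1 : Ext.comp (Y := E.obj (W.F (k + 1))) (s (k + 1))
              (Ext.mk₀ ((W.fsys E).map (homOfLE (Nat.le_succ k)).op)) (add_zero m) = em Z E (W.t k) m (s (k + 1)) := by
            rw [W.fsys_map]
            rfl
          exact (congrArg (fun z => s k - z) e1).trans (hs k)
        · rw [Ext.comp_assoc_of_third_deg_zero, Ext.mk₀_comp_mk₀, he]
          exact hl' k
      have h2 : Ext.comp (Ext.comp l (Ext.mk₀ e.hom) (add_zero (m + 1))) (Ext.mk₀ e.inv) (add_zero (m + 1)) = l := by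
        rw [Ext.comp_assoc_of_third_deg_zero, Ext.mk₀_comp_mk₀, Iso.hom_inv_id, Ext.comp_mk₀_id]
      rw [← h2, h1, Ext.zero_comp]
      rfl
  · intro m hm
    have hm' : ∀ k, em Z E (W.t k) n (m (k + 1)) = m k := fun k => by
      refine Eq.trans ?_ (hm k)
      exact (congrArg (fun f => f (m (k + 1))) (W.sys_t Z E n k)).symm
    obtain ⟨η, hη⟩ := ExtLim.exists_ext_lift (W.fsys E) Z n hD (hb n) m fun k => by
      change Ext.comp (m (k + 1)) (Ext.mk₀ ((W.fsys E).map (homOfLE (Nat.le_succ k)).op)) _ = m k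
      rw [W.fsys_map]
      exact hm' k
    refine ⟨η.comp (Ext.mk₀ e.inv) (add_zero n), fun k => ?_⟩
    change em Z E (p k) n _ = _
    rw [em_apply, Ext.comp_assoc_of_third_deg_zero, Ext.mk₀_comp_mk₀, ← he']
    exact hη k

end K288.TowerAbs
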